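import Cfsg.Agent.Lib.Comp.Fast

set_option maxRecDepth 100000
set_option Elab.async false

namespace Cfsg.Lib.Comp.Co1y

universe u

def iv : ℕ → ℕ := (fun x => look (nat_lit 0xffef7cefae78df6d74cf2c70beeb6caeaa689e69648e28607de75c6da6585d65544d24503ce34c2ca2481c61440c1080) 6 x)

noncomputable def R : List (List ℕ × ℕ) := (apd [([3],1),
 ([4],1),
 ([1],2),
 ([3,4],1),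
 ([1,3],2),
 ([1,4],2),
 ([1,4,2,3],1),
 ([5],1),
 ([1,5],1),
 ([4,5],2),
 ([3,5],4),
 ([1,5,4,3],2),
 ([6],1),
 ([3,6],1),
 ([1,6],2),
 ([5,6],2),
 ([4,6],3),
 ([1,3,5,6,1,4,5,3,1,4,1,5,6,5,3,4],0),
 ([7],1),
 ([1,7],1),
 ([3,7],1),
 ([4,7],1),
 ([6,7],1),
 ([5,7],2),
 ([8],1),
 ([3,8],1),
 ([4,8],1),
 ([6,8],1),
 ([7,8],1),
 ([1,8],2),
 ([5,8],2),
 ([1,8,2,4],1),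
 ([1,3,5,2,6,2,8,2,6,5,7,3,5,6,1,8,1,6,5,7],0),
 ([9],1),
 ([5,9],1),
 ([7,9],1),
 ([1,9],2),
 ([3,9],2),
 ([4,9],2),
 ([6,9],2)]
 (apd [([1,3,1,9,2,6,2,9,3,2,6],0),
 ([8,9],2),
 ([3,4,8,9,3,4,9,8,9,4,3,9],0),
 ([10],1),
 ([1,10],1),
 ([4,10],1),
 ([5,10],1),
 ([7,10],1),
 ([8,10],1),
 ([3,8,10,3,10],0),
 ([6,10],3),
 ([9,10],2),
 ([3,10],3),
 ([1,3,5,7,9,4,10],11),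
 ([1,8,1,9,2,10,9,2,8,2,9,10,2,9],0),
 ([1,1,6,2,9,10,1,10,6,2,9],0),
 ([1,6,8,2,9,10,9,2,8,6,1,9,10,9],0),
 ([1,3,10,1,5,10,3,2,5,3,5],0),
 ([3,4,5,3,4,5,4,9,3,5,4,3,9,10,3,5,8,5,3,5,4,10,9],0),
 ([4,8,5,9,4,8,5,9,10,9,4,8,5,9,4,10,8,9,5,8,4,9,10,5,9],0),
 ([3,6,4,6,10,4,10],0),
 ([1,4,10,6,2,4,6,2,4,6,10],0),
 ([3,4,6,4,6],0),
 ([1,1,5],1),
 ([1,1,7],1),
 ([1,1,10],1),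
 ([3,4,7],1),
 ([3,4,8],1),
 ([3,6,7],1),
 ([3,6,8],1),
 ([3,7,8],1),
 ([4,7,8],1),
 ([4,7,10],1),
 ([4,8,10],1),
 ([6,7,8],1),
 ([7,8,10],1),
 ([1,7,1,8,7,8],0),
 ([1,5,1,9,5,9],0),
 ([1,7,1,9,7,9],0),
 ([3,7,3,9,7,9],0)]
 (apd [([4,7,4,9,7,9],0),
 ([6,7,6,9,7,9],0),
 ([3,4,3,10,4,10],0),
 ([3,7,3,10,7,10],0),
 ([6,7,6,10,7,10],0),
 ([6,8,6,10,8,10],0),
 ([3,4,8,10,3,10,4],0),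
 ([3,6,8,10,3,10,6],0),
 ([3,7,8,10,3,10,7],0),
 ([1,3,10,3,8,1,10],0),
 ([1,8,3,10,3,1,10],0),
 ([3,5,10,5,8,3,10],0),
 ([3,6,8,6,10,3,10],0),
 ([1,6,2,3],1),
 ([1,8,2,3],1),
 ([1,3,2,4],1),
 ([1,3,2,6],1),
 ([1,3,2,8],1),
 ([1,4,2,8],1),
 ([1,6,1,9],1),
 ([1,6,9,6],1),
 ([3,10,6,10],1),
 ([1,1,1,4],1),
 ([1,1,1,9],1),
 ([1,3,1,7],1),
 ([1,3,2,3],1),
 ([1,3,7,3],1),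
 ([1,4,1,10],1),
 ([1,4,2,4],1),
 ([1,4,10,4],1),
 ([1,5,1,9],1),
 ([1,5,1,10],1),
 ([1,5,7,5],1),
 ([1,6,2,6],1),
 ([1,7,5,7],1),
 ([1,7,10,7],1),
 ([1,8,2,8],1),
 ([1,8,10,8],1),
 ([1,9,2,9],1),
 ([1,9,6,9],1)]
 [([1,10,5,10],1),
 ([3,6,4,6],1),
 ([3,6,7,6],1),
 ([3,7,3,9],1),
 ([3,7,4,8],1),
 ([3,7,8,7],1),
 ([1,2],0)])))

def L : List ℕ := [1,2,3,4,5,6,7,8,9,10]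

end Cfsg.Lib.Comp.Co1y
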