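import Cfsg.Agent.Lib.Comp.Co1y.Main
import Cfsg.Agent.Lib.Comp.Co1y.Mat
import Cfsg.Agent.Lib.MatB.Mult

/-! `Co₁` is the permutation group of the package `Co1y`. -/

namespace Cfsg.Lib.Comp.Co1y

open Cfsg.Lib.Leech Cfsg.Spor Cfsg.Lib.MatB

theorem iso : ∃ e : cl (gp nets) L ≃* Co1, ∀ x (hx : x ∈ L),
    e ⟨gp nets x, mem_cl hx⟩ = QuotientGroup.mk' _ (me x) := by
  obtain ⟨f, hf⟩ := hom_quot nets_iv nets_rel ord card.ge (Rz := Rz) (by decide +kernel)
    (ε := fun x => (QuotientGroup.mk' (Subgroup.center Co0) (me x) : Co1)) fun r h1 h2 => by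
      rw [← ev_map, ← map_pow, QuotientGroup.mk'_apply, QuotientGroup.eq_one_iff]
      exact center_of_pmB h2 (allL_iff.1 Rz_ok r h1)
  have := simple
  have := nets_ok.finite L
  have hi : Function.Injective f := by
    rcases (MonoidHom.normal_ker f).eq_bot_or_eq_top with h | h
    · exact (MonoidHom.ker_eq_bot_iff f).1 h
    · have h1 : f ⟨gp nets 10, mem_cl (by decide)⟩ = 1 := by rw [← MonoidHom.mem_ker, h]; trivial
      rw [hf _ (by decide), QuotientGroup.mk'_apply, QuotientGroup.eq_one_iff] at h1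
      exact absurd h1 me_ne
  exact ⟨MulEquiv.ofBijective f ((Nat.bijective_iff_injective_and_card f).2 ⟨hi, card.trans card_Co1.symm⟩), hf⟩

theorem perm : Nonempty (Co1 ≃* cl (gp nets) L) := iso.elim fun e _ => ⟨e.symm⟩

end Cfsg.Lib.Comp.Co1y
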