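import Cfsg.Agent.Lib.Comp.Co1y.Base

set_option maxRecDepth 100000
set_option Elab.async false

namespace Cfsg.Lib.Comp.Co1y

universe u

noncomputable def MuaH1_0_R : List (List ℕ × ℕ) := [([3],1),
 ([6],1),
 ([3,6],1),
 ([7],1),
 ([3,7],1),
 ([6,7],1),
 ([8],1),
 ([3,8],1),
 ([6,8],1),
 ([7,8],1),
 ([9],1),
 ([7,9],1),
 ([3,9],2),
 ([6,9],2),
 ([8,9],2),
 ([3,6,7],1),
 ([3,6,8],1),
 ([3,7,8],1),
 ([6,7,8],1),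
 ([3,7,3,9,7,9],0),
 ([6,7,6,9,7,9],0),
 ([3,6,7,6],1),
 ([3,7,3,9],1),
 ([3,7,8,7],1)]

noncomputable def MuaH1_0_n_7 : Net :=
 (Net.cons 1 (nat_lit 0x1)
 Net.nil)

noncomputable def MuaH1_0_n : List Net := [Net.nil,
 Net.nil,
 Net.nil,
 Net.nil,
 Net.nil,
 Net.nil,
 Net.nil,
 MuaH1_0_n_7]

theorem MuaH1_0_n_ok : NetsOK 2 MuaH1_0_n := netsOK_of (by decide +kernel)

theorem MuaH1_0_n_rel : Rels (gp MuaH1_0_n) MuaH1_0_R := rels_of_relsB (k := 1) MuaH1_0_n_ok (by norm_num) (by decide +kernel)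

theorem MuaH1_0_fin : finB 2 MuaH1_0_n [3,6,7,8,9] 2 (runH 2 MuaH1_0_n (fun x p => ptInv (nth Net.nil MuaH1_0_n x) p) iv MuaH1_0_R [] ([3,6,8,9].map fun x => [x]) 0 []
  [1,5,9,13,12,16,20,36,44]
  (defsH 2 MuaH1_0_n (ones 22) [7] (Nat.shiftLeft 1 0) 0)) = true := by decide +kernel

theorem MuaH1_0_idx : Idx.{u} iv (MuaH1_0_R ++ []) ([3,6,8,9].map fun x => [x]) [3,6,7,8,9] 2 :=
  Reach.idx MuaH1_0_n_ok (reach_runH MuaH1_0_n_ok (fun x p _ => ptInv_gp MuaH1_0_n_ok x p) MuaH1_0_n_rel (reach_defsH MuaH1_0_n_ok _ _ _ _ _ _) _ _) MuaH1_0_fin (by norm_num)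

end Cfsg.Lib.Comp.Co1y
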