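import Cfsg.Agent.Lib.Comp.Co1y.Base

set_option maxRecDepth 100000
set_option Elab.async false

namespace Cfsg.Lib.Comp.Co1y

universe u

noncomputable def MuaH1_1_R : List (List ℕ × ℕ) := [([3],1),
 ([6],1),
 ([3,6],1),
 ([8],1),
 ([3,8],1),
 ([6,8],1),
 ([9],1),
 ([3,9],2),
 ([6,9],2),
 ([8,9],2),
 ([3,6,8],1)]

noncomputable def MuaH1_1_n_3 : Net :=
 (Net.cons 1 (nat_lit 0x14)
 Net.nil)

noncomputable def MuaH1_1_n_6 : Net :=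
 (Net.cons 4 (nat_lit 0xc)
 (Net.cons 2 (nat_lit 0x30)
 (Net.cons 4 (nat_lit 0xc)
 Net.nil)))

noncomputable def MuaH1_1_n_8 : Net :=
 (Net.cons 1 (nat_lit 0x41)
 Net.nil)

noncomputable def MuaH1_1_n_9 : Net :=
 (Net.cons 2 (nat_lit 0x22)
 (Net.cons 1 (nat_lit 0x44)
 (Net.cons 2 (nat_lit 0x22)
 Net.nil)))

noncomputable def MuaH1_1_n : List Net := [Net.nil,
 Net.nil,
 Net.nil,
 MuaH1_1_n_3,
 Net.nil,
 Net.nil,
 MuaH1_1_n_6,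
 Net.nil,
 MuaH1_1_n_8,
 MuaH1_1_n_9]

theorem MuaH1_1_n_ok : NetsOK 8 MuaH1_1_n := netsOK_of (by decide +kernel)

theorem MuaH1_1_n_rel : Rels (gp MuaH1_1_n) MuaH1_1_R := rels_of_relsB (k := 3) MuaH1_1_n_ok (by norm_num) (by decide +kernel)

theorem MuaH1_1_fin : finB 8 MuaH1_1_n [3,6,8,9] 8 (runH 8 MuaH1_1_n (fun x p => ptInv (nth Net.nil MuaH1_1_n x) p) iv MuaH1_1_R [] ([3,6,9].map fun x => [x]) 0 []
  [1,5,9,0,4,8,12,16,20,24,28,32,36,40,16,20,28,36,40]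
  (defsH 8 MuaH1_1_n (ones 88) [8,9,3,6,9,8] (Nat.shiftLeft 1 0) 0)) = true := by decide +kernel

theorem MuaH1_1_idx : Idx.{u} iv (MuaH1_1_R ++ []) ([3,6,9].map fun x => [x]) [3,6,8,9] 8 :=
  Reach.idx MuaH1_1_n_ok (reach_runH MuaH1_1_n_ok (fun x p _ => ptInv_gp MuaH1_1_n_ok x p) MuaH1_1_n_rel (reach_defsH MuaH1_1_n_ok _ _ _ _ _ _) _ _) MuaH1_1_fin (by norm_num)

end Cfsg.Lib.Comp.Co1y
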