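import Cfsg.Agent.Lib.Comp.Co1y.Base

set_option maxRecDepth 100000
set_option Elab.async false

namespace Cfsg.Lib.Comp.Co1y

universe u

noncomputable def MuaH1_2_R : List (List ℕ × ℕ) := [([3],1),
 ([6],1),
 ([3,6],1),
 ([9],1),
 ([3,9],2),
 ([6,9],2)]

noncomputable def MuaH1_2_n_3 : Net :=
 (Net.cons 1 (nat_lit 0x4)
 Net.nil)

noncomputable def MuaH1_2_n_6 : Net :=
 (Net.cons 1 (nat_lit 0x1)
 Net.nil)

noncomputable def MuaH1_2_n_9 : Net :=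
 (Net.cons 2 (nat_lit 0x2)
 (Net.cons 1 (nat_lit 0x4)
 (Net.cons 2 (nat_lit 0x2)
 Net.nil)))

noncomputable def MuaH1_2_n : List Net := [Net.nil,
 Net.nil,
 Net.nil,
 MuaH1_2_n_3,
 Net.nil,
 Net.nil,
 MuaH1_2_n_6,
 Net.nil,
 Net.nil,
 MuaH1_2_n_9]

theorem MuaH1_2_n_ok : NetsOK 4 MuaH1_2_n := netsOK_of (by decide +kernel)

theorem MuaH1_2_n_rel : Rels (gp MuaH1_2_n) MuaH1_2_R := rels_of_relsB (k := 2) MuaH1_2_n_ok (by norm_num) (by decide +kernel)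

theorem MuaH1_2_fin : finB 4 MuaH1_2_n [3,6,9] 4 (runH 4 MuaH1_2_n (fun x p => ptInv (nth Net.nil MuaH1_2_n x) p) iv MuaH1_2_R [] ([3,9].map fun x => [x]) 0 []
  [1,5,0,4,8,12,16,20,8]
  (defsH 4 MuaH1_2_n (ones 44) [6,9,3] (Nat.shiftLeft 1 0) 0)) = true := by decide +kernel

theorem MuaH1_2_idx : Idx.{u} iv (MuaH1_2_R ++ []) ([3,9].map fun x => [x]) [3,6,9] 4 :=
  Reach.idx MuaH1_2_n_ok (reach_runH MuaH1_2_n_ok (fun x p _ => ptInv_gp MuaH1_2_n_ok x p) MuaH1_2_n_rel (reach_defsH MuaH1_2_n_ok _ _ _ _ _ _) _ _) MuaH1_2_fin (by norm_num)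

end Cfsg.Lib.Comp.Co1y
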