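import Cfsg.Agent.Lib.Comp.Co1y.Base

set_option maxRecDepth 100000
set_option Elab.async false

namespace Cfsg.Lib.Comp.Co1y

universe u

noncomputable def MuaH1_3_R : List (List ℕ × ℕ) := [([3],1),
 ([9],1),
 ([3,9],2)]

noncomputable def MuaH1_3_n_3 : Net :=
 (Net.cons 1 (nat_lit 0x2)
 Net.nil)

noncomputable def MuaH1_3_n_9 : Net :=
 (Net.cons 1 (nat_lit 0x1)
 Net.nil)

noncomputable def MuaH1_3_n : List Net := [Net.nil,
 Net.nil,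
 Net.nil,
 MuaH1_3_n_3,
 Net.nil,
 Net.nil,
 Net.nil,
 Net.nil,
 Net.nil,
 MuaH1_3_n_9]

theorem MuaH1_3_n_ok : NetsOK 3 MuaH1_3_n := netsOK_of (by decide +kernel)

theorem MuaH1_3_n_rel : Rels (gp MuaH1_3_n) MuaH1_3_R := rels_of_relsB (k := 2) MuaH1_3_n_ok (by norm_num) (by decide +kernel)

theorem MuaH1_3_fin : finB 3 MuaH1_3_n [3,9] 3 (runH 3 MuaH1_3_n (fun x p => ptInv (nth Net.nil MuaH1_3_n x) p) iv MuaH1_3_R [] ([3].map fun x => [x]) 0 []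
  [1,0,4,8]
  (defsH 3 MuaH1_3_n (ones 33) [9,3] (Nat.shiftLeft 1 0) 0)) = true := by decide +kernel

theorem MuaH1_3_idx : Idx.{u} iv (MuaH1_3_R ++ []) ([3].map fun x => [x]) [3,9] 3 :=
  Reach.idx MuaH1_3_n_ok (reach_runH MuaH1_3_n_ok (fun x p _ => ptInv_gp MuaH1_3_n_ok x p) MuaH1_3_n_rel (reach_defsH MuaH1_3_n_ok _ _ _ _ _ _) _ _) MuaH1_3_fin (by norm_num)

end Cfsg.Lib.Comp.Co1y
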