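import Cfsg.Agent.Lib.Comp.Co1y.Base

set_option maxRecDepth 100000
set_option Elab.async false

namespace Cfsg.Lib.Comp.Co1y

universe u

noncomputable def MuaH3_0_R : List (List ℕ × ℕ) := [([3],1),
 ([4],1),
 ([1],2),
 ([3,4],1),
 ([1,3],2),
 ([1,4],2),
 ([1,4,2,3],1),
 ([5],1),
 ([1,5],1),
 ([4,5],2),
 ([3,5],4),
 ([1,5,4,3],2),
 ([7],1),
 ([1,7],1),
 ([3,7],1),
 ([4,7],1),
 ([5,7],2),
 ([1,1,5],1),
 ([1,1,7],1),
 ([3,4,7],1),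
 ([1,3,2,4],1),
 ([1,1,1,4],1),
 ([1,3,1,7],1),
 ([1,3,2,3],1),
 ([1,3,7,3],1),
 ([1,4,2,4],1),
 ([1,5,7,5],1),
 ([1,7,5,7],1),
 ([1,2],0)]

noncomputable def MuaH3_0_n_1 : Net :=
 (Net.cons 12 (nat_lit 0x4f4)
 (Net.cons 6 (nat_lit 0x3a034)
 (Net.cons 3 (nat_lit 0x184)
 (Net.cons 1 (nat_lit 0x1048)
 (Net.cons 1 (nat_lit 0x400490)
 (Net.cons 1 (nat_lit 0x200208)
 (Net.cons 3 (nat_lit 0x140140)
 (Net.cons 6 (nat_lit 0x28018)
 (Net.cons 12 (nat_lit 0x5cc)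
 Net.nil)))))))))

noncomputable def MuaH3_0_n_3 : Net :=
 (Net.cons 12 (nat_lit 0x300)
 (Net.cons 6 (nat_lit 0x2030)
 (Net.cons 3 (nat_lit 0x2106)
 (Net.cons 1 (nat_lit 0x41048)
 (Net.cons 1 (nat_lit 0x92)
 (Net.cons 1 (nat_lit 0x48)
 (Net.cons 3 (nat_lit 0x2186)
 (Net.cons 6 (nat_lit 0xe030)
 (Net.cons 12 (nat_lit 0x300)
 Net.nil)))))))))

noncomputable def MuaH3_0_n_4 : Net :=
 (Net.cons 6 (nat_lit 0x1c)
 (Net.cons 3 (nat_lit 0x4006)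
 (Net.cons 1 (nat_lit 0x8048)
 (Net.cons 1 (nat_lit 0x10492)
 (Net.cons 1 (nat_lit 0x8208)
 (Net.cons 3 (nat_lit 0x61c6)
 (Net.cons 6 (nat_lit 0x101c)
 Net.nil)))))))

noncomputable def MuaH3_0_n_5 : Net :=
 (Net.cons 12 (nat_lit 0x4c8)
 (Net.cons 6 (nat_lit 0x1a004)
 (Net.cons 3 (nat_lit 0x100006)
 (Net.cons 1 (nat_lit 0x1240)
 (Net.cons 1 (nat_lit 0x410490)
 (Net.cons 1 (nat_lit 0x208)
 (Net.cons 3 (nat_lit 0x140146)
 (Net.cons 6 (nat_lit 0x1a00a)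
 (Net.cons 12 (nat_lit 0x4c8)
 Net.nil)))))))))

noncomputable def MuaH3_0_n_7 : Net :=
 (Net.cons 6 (nat_lit 0x30030)
 (Net.cons 3 (nat_lit 0x84000)
 (Net.cons 1 (nat_lit 0x49241)
 (Net.cons 1 (nat_lit 0x10490)
 (Net.cons 1 (nat_lit 0x8240)
 (Net.cons 3 (nat_lit 0x184140)
 (Net.cons 6 (nat_lit 0x30030)
 Net.nil)))))))

noncomputable def MuaH3_0_n : List Net := [Net.nil,
 MuaH3_0_n_1,
 Net.rev MuaH3_0_n_1,
 MuaH3_0_n_3,
 MuaH3_0_n_4,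
 MuaH3_0_n_5,
 Net.nil,
 MuaH3_0_n_7]

theorem MuaH3_0_n_ok : NetsOK 24 MuaH3_0_n := netsOK_of (by decide +kernel)

theorem MuaH3_0_n_rel : Rels (gp MuaH3_0_n) MuaH3_0_R := rels_of_relsB (k := 5) MuaH3_0_n_ok (by norm_num) (by decide +kernel)

noncomputable def MuaH3_0_b0h : ℕ := (nat_lit 0x10000030000060000000019000003000000001a000018000300000600001a000500001800001a000200001900001a000100000600001a00020000060000190002000003000018)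

noncomputable def MuaH3_0_b0c : List ℕ := [(nat_lit 0x500001d012b0200000100001b00000f012a0300001100001700000a00000600000a00000600000a00000600000a000015004a0a00000b00000a00000800000600000400000a00000800000600000400000a00000800540b00000b00000a000001003c0300000b000005000c02000000000000000000000009)]

theorem MuaH3_0_fin : finB 24 MuaH3_0_n [1,2,3,4,5,7] 21 (runH 24 MuaH3_0_n (tbk 5 4 prs5 MuaH3_0_n 32) iv MuaH3_0_R [] ([1,2,3,4,5].map fun x => [x]) 0 [(fun t => look MuaH3_0_b0h 64 t, MuaH3_0_b0c)]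
  (apd [1,5,9,13,17,0,4,12,28,48,52,56,60,64,76,104,112,8,20,36,40,44,52,56,64,68,72,84,88,96,100,112,12,16,24,28,32,36,48,60,64,112,4,28,36,48,56,2,20,52,68,80,84,92,100,104,108,112,0,12]
 [16,20])
  (defsH 24 MuaH3_0_n (ones 264) [7,5,3,4,5,7,1,2,3,4,5] (Nat.shiftLeft 1 0) 0)) = true := by decide +kernel

theorem MuaH3_0_idx : Idx.{u} iv (MuaH3_0_R ++ []) ([1,2,3,4,5].map fun x => [x]) [1,2,3,4,5,7] 21 :=
  Reach.idx MuaH3_0_n_ok (reach_runH MuaH3_0_n_ok (tbk_eq tr5 (by norm_num) (by norm_num) (by norm_num) MuaH3_0_n_ok) MuaH3_0_n_rel (reach_defsH MuaH3_0_n_ok _ _ _ _ _ _) _ _) MuaH3_0_fin (by norm_num)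

end Cfsg.Lib.Comp.Co1y
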