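import Cfsg.Agent.Lib.Comp.Co1y.MuaH5_01

set_option maxRecDepth 100000
set_option Elab.async false

namespace Cfsg.Lib.Comp.Co1y

universe u

theorem MuaH5_0_fin : finB 5120 MuaH5_0_n [1,2,3,4,5,6,7,8,9] 4600 (runH 5120 MuaH5_0_n (tbk 13 4 prs13 MuaH5_0_n 1024) iv MuaH5_0_R [] ([1,2,3,4,5,6,7,8].map fun x => [x]) 0 []
  (apd [312,316,320,324,332,336,340,0,4,8,16,20,24,28,32,36,40,44,48,52,56,60,64,76,80,84,88,92,96,100,104,108,112,116,120,124,132,136,140,144,148,152,156,160,164,168,172,176,180,184,188,192,196,200,204,208,212,216,220,224]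
 (apd [228,232,236,240,244,248,252,256,260,264,268,272,276,280,284,288,292,296,300,304,308,312,316,320,324,328,332,336,340,0,4,8,12,16,20,24,28,32,36,40,44,48,52,56,60,64,72,76,80,84,88,92,96,100,104,108,112,116,120,124]
 (apd [132,136,140,144,148,152,156,160,164,168,172,176,180,184,188,192,196,200,204,208,212,216,220,224,228,232,236,240,244,248,252,256,260,264,268,272,276,280,284,288,292,296,300,304,308,312,316,320,324,328,332,336,340,0,4,8,12,16,20,24]
 (apd [28,32,36,40,44,48,52,56,60,64,72,76,80,84,88,92,96,100,104,108,112,116,120,124,132,136,140,144,148,152,156,160,164,168,172,176,180,184,188,192,196,200,204,208,212,216,220,224,228,232,236,240,244,248,252,256,260,264,268,272]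
 (apd [276,280,284,288,292,296,300,304,308,312,316,320,324,328,332,336,340,0,4,8,12,16,20,24,28,32,36,40,44,48,52,56,60,64,72,76,80,84,88,92,96,100,104,108,112,116,120,124,132,136,140,144,148,152,156,160,164,168,172,176]
 (apd [180,184,188,192,196,200,204,208,212,216,220,224,228,232,236,240,244,248,252,256,260,264,268,272,276,280,284,288,292,296,300,304,308,312,316,320,324,328,332,336,340,0,4,8,12,16,20,24,28,32,36,40,44,48,52,56,60,64,72,76]
 (apd [80,84,88,92,96,100,104,108,112,116,120,124,132,136,140,144,148,152,156,160,164,168,172,176,180,184,188,192,196,200,204,208,212,216,220,224,228,232,236,240,244,248,252,256,260,264,268,272,276,280,284,288,292,296,300,304,308,312,316,320]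
 (apd [324,328,332,336,340,0,4,8,12,16,20,24,28,32,36,40,44,48,52,56,60,64,72,76,80,84,88,92,96,100,104,108,112,116,120,124,132,136,140,144,148,152,156,160,164,168,172,176,180,184,188,192,196,200,204,208,212,216,220,224]
 (apd [228,232,236,240,244,248,252,256,260,264,268,272,276,280,284,288,292,296,300,304,308,312,316,320,324,328,332,336,340,0,4,8,12,16,20,24,28,32,36,40,44,48,52,56,60,64,76,80,84,88,92,96,100,104,108,112,116,120,124,132]
 (apd [136,140,144,148,152,156,160,164,168,172,176,180,184,188,192,196,200,204,208,212,216,220,224,228,232,236,240,244,248,252,256,260,264,268,272,276,280,284,288,292,296,300,304,308,312,316,320,324,328,332,336,340,0,4,8,12,16,20,24,28]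
 (apd [32,36,40,44,48,52,56,60,64,72,76,80,84,88,92,96,100,104,108,112,116,120,124,132,136,140,144,148,152,156,160,164,168,172,176,180,184,188,192,196,200,204,208,212,216,220,224,228,232,236,240,244,248,252,256,260,264,268,272,276]
 (apd [280,284,288,292,296,300,304,308,312,316,320,324,328,332,336,340,0,4,8,12,16,20,24,28,32,36,40,44,48,52,56,60,64,76,80,92,100,104,108,116,120,124,132,136,140,144,148,152,156,160,164,168,172,176,180,184,192,196,204,208]
 [212,216,220,224,228,232,236,240,244,248,252,256,260,264,268,276,280,284,288,292,296,300,308,312,316,320,340,32,36,40,44,56,76,80,84,104,124,136,140,160,340]))))))))))))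
  MuaH5_0_K0) = true := by decide +kernel

theorem MuaH5_0_idx : Idx.{u} iv (MuaH5_0_R ++ []) ([1,2,3,4,5,6,7,8].map fun x => [x]) [1,2,3,4,5,6,7,8,9] 4600 :=
  Reach.idx MuaH5_0_n_ok (reach_runH MuaH5_0_n_ok (tbk_eq tr13 (by norm_num) (by norm_num) (by norm_num) MuaH5_0_n_ok) MuaH5_0_n_rel MuaH5_0_K0_reach _ _) MuaH5_0_fin (by norm_num)

end Cfsg.Lib.Comp.Co1y
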