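import Cfsg.Agent.Lib.Comp.Co1y.MuaH0_0
import Cfsg.Agent.Lib.Comp.Co1y.MuaH0_1
import Cfsg.Agent.Lib.Comp.Co1y.MuaH0_2
import Cfsg.Agent.Lib.Comp.Co1y.MuaH0_3
import Cfsg.Agent.Lib.Comp.Co1y.MuaH0_4
import Cfsg.Agent.Lib.Comp.Co1y.MuaH1_0
import Cfsg.Agent.Lib.Comp.Co1y.MuaH1_1
import Cfsg.Agent.Lib.Comp.Co1y.MuaH1_2
import Cfsg.Agent.Lib.Comp.Co1y.MuaH1_3
import Cfsg.Agent.Lib.Comp.Co1y.MuaH1_4
import Cfsg.Agent.Lib.Comp.Co1y.MuaH2_0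
import Cfsg.Agent.Lib.Comp.Co1y.MuaH2_1
import Cfsg.Agent.Lib.Comp.Co1y.MuaH2_2
import Cfsg.Agent.Lib.Comp.Co1y.MuaH2_3
import Cfsg.Agent.Lib.Comp.Co1y.MuaH2_4
import Cfsg.Agent.Lib.Comp.Co1y.MuaH3_0
import Cfsg.Agent.Lib.Comp.Co1y.MuaH3_1
import Cfsg.Agent.Lib.Comp.Co1y.MuaH3_2
import Cfsg.Agent.Lib.Comp.Co1y.MuaH3_3
import Cfsg.Agent.Lib.Comp.Co1y.MuaH3_4
import Cfsg.Agent.Lib.Comp.Co1y.MuaH4_0
import Cfsg.Agent.Lib.Comp.Co1y.MuaH4_1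
import Cfsg.Agent.Lib.Comp.Co1y.MuaH4_2
import Cfsg.Agent.Lib.Comp.Co1y.MuaH4_3
import Cfsg.Agent.Lib.Comp.Co1y.MuaH4_4
import Cfsg.Agent.Lib.Comp.Co1y.MuaH4_5
import Cfsg.Agent.Lib.Comp.Co1y.MuaH5_02
import Cfsg.Agent.Lib.Comp.Co1y.MuaH5_1
import Cfsg.Agent.Lib.Comp.Co1y.MuaH5_2
import Cfsg.Agent.Lib.Comp.Co1y.MuaH5_3
import Cfsg.Agent.Lib.Comp.Co1y.MuaH5_4
import Cfsg.Agent.Lib.Comp.Co1y.MuaH5_5
import Cfsg.Agent.Lib.Comp.Co1y.MuaH5_6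
import Cfsg.Agent.Lib.Comp.Co1y.MuaH5_7
import Cfsg.Agent.Lib.Comp.Co1y.Mua10
import Cfsg.Agent.Lib.Comp.Co1y.Main
import Cfsg.Agent.Lib.Comp.Cover

set_option maxRecDepth 100000
set_option Elab.async false

namespace Cfsg.Lib.Comp.Co1y

universe u

theorem MuaH0_4_ord : Ord.{u} iv MuaH0_4_R [1,2] 3 :=
  (MuaH0_4_idx.ord_base).of_cons (cons_of_subset (by decide +kernel))

theorem MuaH0_3_ord : Ord.{u} iv MuaH0_3_R [1,2,3] 12 :=
  (MuaH0_3_idx.ord_step MuaH0_4_ord).of_cons (cons_of_subset (by decide +kernel))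

theorem MuaH0_2_ord : Ord.{u} iv MuaH0_2_R [1,2,3,4] 48 :=
  (MuaH0_2_idx.ord_step MuaH0_3_ord).of_cons (cons_of_subset (by decide +kernel))

theorem MuaH0_1_ord : Ord.{u} iv MuaH0_1_R [1,2,3,4,8] 192 :=
  (MuaH0_1_idx.ord_step MuaH0_2_ord).of_cons (cons_of_subset (by decide +kernel))

theorem MuaH0_0_ord : Ord.{u} iv MuaH0_0_R [1,2,3,4,8,10] 384 :=
  (MuaH0_0_idx.ord_step MuaH0_1_ord).of_cons (cons_of_subset (by decide +kernel))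

noncomputable def MuaH0_lb_n_1 : Net :=
 (Net.cons 12 (nat_lit 0x88e)
 (Net.cons 6 (nat_lit 0x24018)
 (Net.cons 3 (nat_lit 0x184104)
 (Net.cons 1 (nat_lit 0x9)
 (Net.cons 1 (nat_lit 0x412490)
 (Net.cons 1 (nat_lit 0x201208)
 (Net.cons 3 (nat_lit 0x43080)
 (Net.cons 6 (nat_lit 0x3b004)
 (Net.cons 12 (nat_lit 0x1fd)
 Net.nil)))))))))

noncomputable def MuaH0_lb_n_3 : Net :=
 (Net.cons 12 (nat_lit 0x540)
 (Net.cons 6 (nat_lit 0x1802c)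
 (Net.cons 3 (nat_lit 0x100080)
 (Net.cons 1 (nat_lit 0x208049)
 (Net.cons 1 (nat_lit 0x90012)
 (Net.cons 1 (nat_lit 0x8009)
 (Net.cons 3 (nat_lit 0x100180)
 (Net.cons 6 (nat_lit 0x1902c)
 (Net.cons 12 (nat_lit 0x540)
 Net.nil)))))))))

noncomputable def MuaH0_lb_n_4 : Net :=
 (Net.cons 12 (nat_lit 0xba0)
 (Net.cons 6 (nat_lit 0x10004)
 (Net.cons 3 (nat_lit 0x4002)
 (Net.cons 1 (nat_lit 0x1048)
 (Net.cons 1 (nat_lit 0x402080)
 (Net.cons 1 (nat_lit 0x1040)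
 (Net.cons 3 (nat_lit 0x4002)
 (Net.cons 6 (nat_lit 0x1e014)
 (Net.cons 12 (nat_lit 0xba0)
 Net.nil)))))))))

noncomputable def MuaH0_lb_n_8 : Net :=
 (Net.cons 12 (nat_lit 0x694)
 (Net.cons 6 (nat_lit 0x2c002)
 (Net.cons 3 (nat_lit 0x104080)
 (Net.cons 1 (nat_lit 0x208209)
 (Net.cons 1 (nat_lit 0x92482)
 (Net.cons 1 (nat_lit 0x48200)
 (Net.cons 3 (nat_lit 0x2104)
 (Net.cons 6 (nat_lit 0x39011)
 (Net.cons 12 (nat_lit 0x96b)
 Net.nil)))))))))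

noncomputable def MuaH0_lb_n_10 : Net :=
 (Net.cons 12 (nat_lit 0xc80)
 (Net.cons 6 (nat_lit 0x3200e)
 (Net.cons 3 (nat_lit 0x100006)
 (Net.cons 1 (nat_lit 0x208008)
 (Net.cons 1 (nat_lit 0x412492)
 (Net.cons 1 (nat_lit 0x201008)
 (Net.cons 3 (nat_lit 0x187046)
 (Net.cons 6 (nat_lit 0x3200e)
 (Net.cons 12 (nat_lit 0xc80)
 Net.nil)))))))))

noncomputable def MuaH0_lb_n_64 : Net :=
 (Net.cons 12 (nat_lit 0x558)
 (Net.cons 3 (nat_lit 0x102000)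
 (Net.cons 1 (nat_lit 0x8208)
 (Net.cons 1 (nat_lit 0x402400)
 (Net.cons 1 (nat_lit 0x200)
 (Net.cons 3 (nat_lit 0x102004)
 (Net.cons 6 (nat_lit 0x15002)
 (Net.cons 12 (nat_lit 0x558)
 Net.nil))))))))

noncomputable def MuaH0_lb_n : List Net := (apd [Net.nil,
 MuaH0_lb_n_1,
 Net.rev MuaH0_lb_n_1,
 MuaH0_lb_n_3,
 MuaH0_lb_n_4,
 Net.nil,
 Net.nil,
 Net.nil,
 MuaH0_lb_n_8,
 Net.nil,
 MuaH0_lb_n_10,
 Net.nil,
 Net.nil,
 Net.nil,
 Net.nil,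
 Net.nil,
 Net.nil,
 Net.nil,
 Net.nil,
 Net.nil,
 Net.nil,
 Net.nil,
 Net.nil,
 Net.nil,
 Net.nil,
 Net.nil,
 Net.nil,
 Net.nil,
 Net.nil,
 Net.nil,
 Net.nil,
 Net.nil,
 Net.nil,
 Net.nil,
 Net.nil,
 Net.nil,
 Net.nil,
 Net.nil,
 Net.nil,
 Net.nil]
 [Net.nil,
 Net.nil,
 Net.nil,
 Net.nil,
 Net.nil,
 Net.nil,
 Net.nil,
 Net.nil,
 Net.nil,
 Net.nil,
 Net.nil,
 Net.nil,
 Net.nil,
 Net.nil,
 Net.nil,
 Net.nil,
 Net.nil,
 Net.nil,
 Net.nil,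
 Net.nil,
 Net.nil,
 Net.nil,
 Net.nil,
 Net.nil,
 MuaH0_lb_n_64])

theorem MuaH0_lb_n_ok : NetsOK 24 MuaH0_lb_n := netsOK_of (by decide +kernel)

theorem MuaH0_lb : 384 ≤ Nat.card (cl (gp nets) [1,2,3,4,8,10]) :=
  lb_of_itwB (k := 5) (n := 24) nets_ok MuaH0_lb_n_ok (by norm_num) (by norm_num) (tbA_pt nets_ok) (tbA_pt MuaH0_lb_n_ok) (φ := look2 (nat_lit 0x15dd41390d15dd11390f15dd21391315dcf15dcc15dd715dcd139151391615dd315dce15dd515dd0139101390e1391215dd61391413911139171390c) 20 64) (by decide +kernel) (by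
    rw [← cl_eq_of_slpB (k := 5) (D := [(64,[1,3,2])]) MuaH0_lb_n_ok (by norm_num) (by decide +kernel)]
    exact lb_of_chainB MuaH0_lb_n_ok (C := [([4,10,64],[1,3,10,4,1,8,1],0,0,24),
 ([],[4,10,64,10,64],1,1,16)]) (by decide +kernel))

theorem MuaH1_4_ord : Ord.{u} iv MuaH1_4_R [3] 2 :=
  (MuaH1_4_idx.ord_base).of_cons (cons_of_subset (by decide +kernel))

theorem MuaH1_3_ord : Ord.{u} iv MuaH1_3_R [3,9] 6 :=
  (MuaH1_3_idx.ord_step MuaH1_4_ord).of_cons (cons_of_subset (by decide +kernel))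

theorem MuaH1_2_ord : Ord.{u} iv MuaH1_2_R [3,6,9] 24 :=
  (MuaH1_2_idx.ord_step MuaH1_3_ord).of_cons (cons_of_subset (by decide +kernel))

theorem MuaH1_1_ord : Ord.{u} iv MuaH1_1_R [3,6,8,9] 192 :=
  (MuaH1_1_idx.ord_step MuaH1_2_ord).of_cons (cons_of_subset (by decide +kernel))

theorem MuaH1_0_ord : Ord.{u} iv MuaH1_0_R [3,6,7,8,9] 384 :=
  (MuaH1_0_idx.ord_step MuaH1_1_ord).of_cons (cons_of_subset (by decide +kernel))

noncomputable def MuaH1_lb_n_3 : Net :=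
 (Net.cons 8 (nat_lit 0x54)
 (Net.cons 4 (nat_lit 0x400)
 (Net.cons 1 (nat_lit 0x5555)
 (Net.cons 2 (nat_lit 0x3033)
 (Net.cons 4 (nat_lit 0x409)
 (Net.cons 8 (nat_lit 0x54)
 Net.nil))))))

noncomputable def MuaH1_lb_n_6 : Net :=
 (Net.cons 8 (nat_lit 0x64)
 (Net.cons 4 (nat_lit 0x8)
 (Net.cons 1 (nat_lit 0x5)
 (Net.cons 2 (nat_lit 0x3330)
 (Net.cons 4 (nat_lit 0x508)
 (Net.cons 8 (nat_lit 0x64)
 Net.nil))))))

noncomputable def MuaH1_lb_n_7 : Net :=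
 (Net.cons 8 (nat_lit 0x64)
 (Net.cons 4 (nat_lit 0x408)
 (Net.cons 1 (nat_lit 0x505)
 (Net.cons 2 (nat_lit 0x3033)
 (Net.cons 4 (nat_lit 0x408)
 (Net.cons 8 (nat_lit 0x64)
 Net.nil))))))

noncomputable def MuaH1_lb_n_8 : Net :=
 (Net.cons 8 (nat_lit 0xc)
 (Net.cons 4 (nat_lit 0x8)
 (Net.cons 1 (nat_lit 0x145)
 (Net.cons 2 (nat_lit 0x3)
 (Net.cons 4 (nat_lit 0xc08)
 (Net.cons 8 (nat_lit 0x3c)
 Net.nil))))))

noncomputable def MuaH1_lb_n_9 : Net :=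
 (Net.cons 8 (nat_lit 0xe2)
 (Net.cons 4 (nat_lit 0xc00)
 (Net.cons 1 (nat_lit 0x5500)
 (Net.cons 2 (nat_lit 0x2133)
 (Net.cons 4 (nat_lit 0x30a)
 (Net.cons 8 (nat_lit 0xe2)
 Net.nil))))))

noncomputable def MuaH1_lb_n_64 : Net :=
 (Net.cons 4 (nat_lit 0x400)
 (Net.cons 2 (nat_lit 0x2000)
 (Net.cons 1 (nat_lit 0x4414)
 (Net.cons 2 (nat_lit 0x3012)
 (Net.cons 4 (nat_lit 0xc00)
 Net.nil)))))

noncomputable def MuaH1_lb_n_66 : Net :=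
 (Net.cons 4 (nat_lit 0xc)
 (Net.cons 1 (nat_lit 0x5050)
 (Net.cons 2 (nat_lit 0x3030)
 (Net.cons 4 (nat_lit 0xc)
 Net.nil))))

noncomputable def MuaH1_lb_n_67 : Net :=
 (Net.cons 1 (nat_lit 0x5014)
 Net.nil)

noncomputable def MuaH1_lb_n : List Net := (apd [Net.nil,
 Net.nil,
 Net.nil,
 MuaH1_lb_n_3,
 Net.nil,
 Net.nil,
 MuaH1_lb_n_6,
 MuaH1_lb_n_7,
 MuaH1_lb_n_8,
 MuaH1_lb_n_9,
 Net.nil,
 Net.nil,
 Net.nil,
 Net.nil,
 Net.nil,
 Net.nil,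
 Net.nil,
 Net.nil,
 Net.nil,
 Net.nil,
 Net.nil,
 Net.nil,
 Net.nil,
 Net.nil,
 Net.nil,
 Net.nil,
 Net.nil,
 Net.nil,
 Net.nil,
 Net.nil,
 Net.nil,
 Net.nil,
 Net.nil,
 Net.nil,
 Net.nil,
 Net.nil,
 Net.nil,
 Net.nil,
 Net.nil,
 Net.nil]
 [Net.nil,
 Net.nil,
 Net.nil,
 Net.nil,
 Net.nil,
 Net.nil,
 Net.nil,
 Net.nil,
 Net.nil,
 Net.nil,
 Net.nil,
 Net.nil,
 Net.nil,
 Net.nil,
 Net.nil,
 Net.nil,
 Net.nil,
 Net.nil,
 Net.nil,
 Net.nil,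
 Net.nil,
 Net.nil,
 Net.nil,
 Net.nil,
 MuaH1_lb_n_64,
 Net.rev MuaH1_lb_n_64,
 MuaH1_lb_n_66,
 MuaH1_lb_n_67])

theorem MuaH1_lb_n_ok : NetsOK 16 MuaH1_lb_n := netsOK_of (by decide +kernel)

theorem MuaH1_lb : 384 ≤ Nat.card (cl (gp nets) [3,6,7,8,9]) :=
  lb_of_itwB (k := 4) (n := 16) nets_ok MuaH1_lb_n_ok (by norm_num) (by norm_num) (tbA_pt nets_ok) (tbA_pt MuaH1_lb_n_ok) (φ := look2 (nat_lit 0x642d064210306f03069064180306a059580595d02b2606431064150642c03086030770307d02b24) 20 64) (by decide +kernel) (by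
    rw [← cl_eq_of_slpB (k := 4) (D := [(64,[6,9,6,3]),
 (65,[3,6,9,6]),
 (66,[8,3]),
 (67,[7,3])]) MuaH1_lb_n_ok (by norm_num) (by decide +kernel)]
    exact lb_of_chainB MuaH1_lb_n_ok (C := [([64,65,66,67],[3,6,9,3,8,9,6],0,0,16),
 ([66,67],[64,64,66,64],1,1,6),
 ([],[66,67],2,2,4)]) (by decide +kernel))

theorem MuaH2_4_ord : Ord.{u} iv MuaH2_4_R [1,2] 3 :=
  (MuaH2_4_idx.ord_base).of_cons (cons_of_subset (by decide +kernel))

theorem MuaH2_3_ord : Ord.{u} iv MuaH2_3_R [1,2,6] 12 :=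
  (MuaH2_3_idx.ord_step MuaH2_4_ord).of_cons (cons_of_subset (by decide +kernel))

theorem MuaH2_2_ord : Ord.{u} iv MuaH2_2_R [1,2,5,6] 60 :=
  (MuaH2_2_idx.ord_step MuaH2_3_ord).of_cons (cons_of_subset (by decide +kernel))

theorem MuaH2_1_ord : Ord.{u} iv MuaH2_1_R [1,2,5,6,7] 360 :=
  (MuaH2_1_idx.ord_step MuaH2_2_ord).of_cons (cons_of_subset (by decide +kernel))

theorem MuaH2_0_ord : Ord.{u} iv MuaH2_0_R [1,2,5,6,7,9] 2520 :=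
  (MuaH2_0_idx.ord_step MuaH2_1_ord).of_cons (cons_of_subset (by decide +kernel))

noncomputable def MuaH2_lb_n_1 : Net :=
 (Net.cons 2 (nat_lit 0x2)
 (Net.cons 1 (nat_lit 0x4)
 Net.nil))

noncomputable def MuaH2_lb_n_5 : Net :=
 (Net.cons 1 (nat_lit 0x14)
 Net.nil)

noncomputable def MuaH2_lb_n_6 : Net :=
 (Net.cons 4 (nat_lit 0x2)
 (Net.cons 1 (nat_lit 0x14)
 (Net.cons 4 (nat_lit 0x2)
 Net.nil)))

noncomputable def MuaH2_lb_n_7 : Net :=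
 (Net.cons 2 (nat_lit 0x20)
 (Net.cons 1 (nat_lit 0x44)
 (Net.cons 2 (nat_lit 0x20)
 Net.nil)))

noncomputable def MuaH2_lb_n_9 : Net :=
 (Net.cons 1 (nat_lit 0x5)
 Net.nil)

noncomputable def MuaH2_lb_n_64 : Net :=
 (Net.cons 4 (nat_lit 0xc)
 (Net.cons 1 (nat_lit 0x40)
 (Net.cons 2 (nat_lit 0x10)
 (Net.cons 4 (nat_lit 0xc)
 Net.nil))))

noncomputable def MuaH2_lb_n_66 : Net :=
 (Net.cons 4 (nat_lit 0x8)
 (Net.cons 1 (nat_lit 0x10)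
 (Net.cons 2 (nat_lit 0x20)
 (Net.cons 4 (nat_lit 0x8)
 Net.nil))))

noncomputable def MuaH2_lb_n_68 : Net :=
 (Net.cons 1 (nat_lit 0x10)
 (Net.cons 2 (nat_lit 0x10)
 Net.nil))

noncomputable def MuaH2_lb_n : List Net := (apd [Net.nil,
 MuaH2_lb_n_1,
 Net.rev MuaH2_lb_n_1,
 Net.nil,
 Net.nil,
 MuaH2_lb_n_5,
 MuaH2_lb_n_6,
 MuaH2_lb_n_7,
 Net.nil,
 MuaH2_lb_n_9,
 Net.nil,
 Net.nil,
 Net.nil,
 Net.nil,
 Net.nil,
 Net.nil,
 Net.nil,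
 Net.nil,
 Net.nil,
 Net.nil,
 Net.nil,
 Net.nil,
 Net.nil,
 Net.nil,
 Net.nil,
 Net.nil,
 Net.nil,
 Net.nil,
 Net.nil,
 Net.nil,
 Net.nil,
 Net.nil,
 Net.nil,
 Net.nil,
 Net.nil,
 Net.nil,
 Net.nil,
 Net.nil,
 Net.nil,
 Net.nil]
 [Net.nil,
 Net.nil,
 Net.nil,
 Net.nil,
 Net.nil,
 Net.nil,
 Net.nil,
 Net.nil,
 Net.nil,
 Net.nil,
 Net.nil,
 Net.nil,
 Net.nil,
 Net.nil,
 Net.nil,
 Net.nil,
 Net.nil,
 Net.nil,
 Net.nil,
 Net.nil,
 Net.nil,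
 Net.nil,
 Net.nil,
 Net.nil,
 MuaH2_lb_n_64,
 Net.rev MuaH2_lb_n_64,
 MuaH2_lb_n_66,
 Net.rev MuaH2_lb_n_66,
 MuaH2_lb_n_68,
 Net.rev MuaH2_lb_n_68])

theorem MuaH2_lb_n_ok : NetsOK 8 MuaH2_lb_n := netsOK_of (by decide +kernel)

theorem MuaH2_lb : 2520 ≤ Nat.card (cl (gp nets) [1,2,5,6,7,9]) :=
  lb_of_itwB (k := 3) (n := 7) nets_ok MuaH2_lb_n_ok (by norm_num) (by norm_num) (tbA_pt nets_ok) (tbA_pt MuaH2_lb_n_ok) (φ := look2 (nat_lit 0x37e003bc003c700414003f60040c00001) 20 64) (by decide +kernel) (by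
    rw [← cl_eq_of_slpB (k := 3) (D := [(64,[6,2,6]),
 (65,[6,1,6]),
 (66,[64,5]),
 (67,[5,65]),
 (68,[7,5]),
 (69,[5,7])]) MuaH2_lb_n_ok (by norm_num) (by decide +kernel)]
    exact lb_of_chainB MuaH2_lb_n_ok (C := [([1,2,5,6,7,64,65,66,67,68,69],[9,1,6,5,7],0,0,7),
 ([5,7,64,65,66,67,68,69],[1,6,5,7],1,1,6),
 ([66,67,68,69],[5,64,5,7],2,2,5),
 ([68,69],[66,66,68],3,3,4),
 ([],[68,68],4,4,3)]) (by decide +kernel))

theorem MuaH3_4_ord : Ord.{u} iv MuaH3_4_R [1,2] 3 :=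
  (MuaH3_4_idx.ord_base).of_cons (cons_of_subset (by decide +kernel))

theorem MuaH3_3_ord : Ord.{u} iv MuaH3_3_R [1,2,4] 12 :=
  (MuaH3_3_idx.ord_step MuaH3_4_ord).of_cons (cons_of_subset (by decide +kernel))

theorem MuaH3_2_ord : Ord.{u} iv MuaH3_2_R [1,2,4,5] 60 :=
  (MuaH3_2_idx.ord_step MuaH3_3_ord).of_cons (cons_of_subset (by decide +kernel))

theorem MuaH3_1_ord : Ord.{u} iv MuaH3_1_R [1,2,3,4,5] 960 :=
  (MuaH3_1_idx.ord_step MuaH3_2_ord).of_cons (cons_of_subset (by decide +kernel))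

theorem MuaH3_0_ord : Ord.{u} iv MuaH3_0_R [1,2,3,4,5,7] 20160 :=
  (MuaH3_0_idx.ord_step MuaH3_1_ord).of_cons (cons_of_subset (by decide +kernel))

noncomputable def MuaH3_lb_n_1 : Net :=
 (Net.cons 1 (nat_lit 0x9208)
 (Net.cons 1 (nat_lit 0x92490)
 (Net.cons 1 (nat_lit 0x40040)
 Net.nil)))

noncomputable def MuaH3_lb_n_3 : Net :=
 (Net.cons 12 (nat_lit 0x240)
 (Net.cons 6 (nat_lit 0x2)
 (Net.cons 3 (nat_lit 0x106)
 (Net.cons 1 (nat_lit 0x48)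
 (Net.cons 1 (nat_lit 0x80412)
 (Net.cons 1 (nat_lit 0x8)
 (Net.cons 3 (nat_lit 0x43106)
 (Net.cons 6 (nat_lit 0x2)
 (Net.cons 12 (nat_lit 0x240)
 Net.nil)))))))))

noncomputable def MuaH3_lb_n_4 : Net :=
 (Net.cons 12 (nat_lit 0x7c0)
 (Net.cons 6 (nat_lit 0x4000)
 (Net.cons 3 (nat_lit 0x2)
 (Net.cons 1 (nat_lit 0x48)
 (Net.cons 1 (nat_lit 0x2092)
 (Net.cons 1 (nat_lit 0x48)
 (Net.cons 3 (nat_lit 0x2)
 (Net.cons 6 (nat_lit 0x1d002)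
 (Net.cons 12 (nat_lit 0x7c0)
 Net.nil)))))))))

noncomputable def MuaH3_lb_n_5 : Net :=
 (Net.cons 6 (nat_lit 0x38)
 (Net.cons 1 (nat_lit 0x41009)
 (Net.cons 1 (nat_lit 0x90010)
 (Net.cons 1 (nat_lit 0x40008)
 (Net.cons 3 (nat_lit 0x1c0)
 (Net.cons 6 (nat_lit 0x38)
 Net.nil))))))

noncomputable def MuaH3_lb_n_7 : Net :=
 (Net.cons 12 (nat_lit 0x1c0)
 (Net.cons 6 (nat_lit 0x38)
 (Net.cons 1 (nat_lit 0x49008)
 (Net.cons 1 (nat_lit 0x80002)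
 (Net.cons 1 (nat_lit 0x40000)
 (Net.cons 3 (nat_lit 0x1c0)
 (Net.cons 6 (nat_lit 0x38)
 (Net.cons 12 (nat_lit 0x1c0)
 Net.nil))))))))

noncomputable def MuaH3_lb_n_64 : Net :=
 (Net.cons 12 (nat_lit 0x32c)
 (Net.cons 6 (nat_lit 0x2a000)
 (Net.cons 3 (nat_lit 0x100000)
 (Net.cons 1 (nat_lit 0x8048)
 (Net.cons 1 (nat_lit 0x82080)
 (Net.cons 1 (nat_lit 0x41040)
 (Net.cons 3 (nat_lit 0x142004)
 (Net.cons 6 (nat_lit 0x25030)
 (Net.cons 12 (nat_lit 0x26c)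
 Net.nil)))))))))

noncomputable def MuaH3_lb_n_66 : Net :=
 (Net.cons 12 (nat_lit 0xfc0)
 (Net.cons 6 (nat_lit 0x20000)
 (Net.cons 1 (nat_lit 0x249008)
 (Net.cons 1 (nat_lit 0x482090)
 (Net.cons 1 (nat_lit 0x40048)
 (Net.cons 3 (nat_lit 0x186004)
 (Net.cons 6 (nat_lit 0x2f000)
 (Net.cons 12 (nat_lit 0xfc0)
 Net.nil))))))))

noncomputable def MuaH3_lb_n : List Net := (apd [Net.nil,
 MuaH3_lb_n_1,
 Net.rev MuaH3_lb_n_1,
 MuaH3_lb_n_3,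
 MuaH3_lb_n_4,
 MuaH3_lb_n_5,
 Net.nil,
 MuaH3_lb_n_7,
 Net.nil,
 Net.nil,
 Net.nil,
 Net.nil,
 Net.nil,
 Net.nil,
 Net.nil,
 Net.nil,
 Net.nil,
 Net.nil,
 Net.nil,
 Net.nil,
 Net.nil,
 Net.nil,
 Net.nil,
 Net.nil,
 Net.nil,
 Net.nil,
 Net.nil,
 Net.nil,
 Net.nil,
 Net.nil,
 Net.nil,
 Net.nil,
 Net.nil,
 Net.nil,
 Net.nil,
 Net.nil,
 Net.nil,
 Net.nil,
 Net.nil,
 Net.nil]
 [Net.nil,
 Net.nil,
 Net.nil,
 Net.nil,
 Net.nil,
 Net.nil,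
 Net.nil,
 Net.nil,
 Net.nil,
 Net.nil,
 Net.nil,
 Net.nil,
 Net.nil,
 Net.nil,
 Net.nil,
 Net.nil,
 Net.nil,
 Net.nil,
 Net.nil,
 Net.nil,
 Net.nil,
 Net.nil,
 Net.nil,
 Net.nil,
 MuaH3_lb_n_64,
 Net.rev MuaH3_lb_n_64,
 MuaH3_lb_n_66,
 Net.rev MuaH3_lb_n_66])

theorem MuaH3_lb_n_ok : NetsOK 24 MuaH3_lb_n := netsOK_of (by decide +kernel)

theorem MuaH3_lb : 20160 ≤ Nat.card (cl (gp nets) [1,2,3,4,5,7]) :=
  lb_of_itwB (k := 5) (n := 21) nets_ok MuaH3_lb_n_ok (by norm_num) (by norm_num) (tbA_pt nets_ok) (tbA_pt MuaH3_lb_n_ok) (φ := look2 (nat_lit 0x149001480014b0023b0023d002390023c00234002370023a00232002380023600235002330022f002300022e002310014a00147) 20 64) (by decide +kernel) (by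
    rw [← cl_eq_of_slpB (k := 5) (D := [(64,[5,3,2,4,3,5]),
 (65,[5,3,4,1,3,5]),
 (66,[3,4,1,3]),
 (67,[3,2,4,3])]) MuaH3_lb_n_ok (by norm_num) (by decide +kernel)]
    exact lb_of_chainB MuaH3_lb_n_ok (C := [([1,2,3,4,7,64,65,66,67],[5,3,4,7,64,1,1],0,0,21),
 ([1,2,64,65,66,67],[3,4,7,64,1,1],1,1,20),
 ([1,2],[64,66,1,64,64],2,2,16),
 ([],[1,1],18,18,3)]) (by decide +kernel))

theorem MuaH4_5_ord : Ord.{u} iv MuaH4_5_R [1,2] 3 :=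
  (MuaH4_5_idx.ord_base).of_cons (cons_of_subset (by decide +kernel))

theorem MuaH4_4_ord : Ord.{u} iv MuaH4_4_R [1,2,4] 12 :=
  (MuaH4_4_idx.ord_step MuaH4_5_ord).of_cons (cons_of_subset (by decide +kernel))

theorem MuaH4_3_ord : Ord.{u} iv MuaH4_3_R [1,2,4,5] 60 :=
  (MuaH4_3_idx.ord_step MuaH4_4_ord).of_cons (cons_of_subset (by decide +kernel))

theorem MuaH4_2_ord : Ord.{u} iv MuaH4_2_R [1,2,3,4,5] 960 :=
  (MuaH4_2_idx.ord_step MuaH4_3_ord).of_cons (cons_of_subset (by decide +kernel))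

theorem MuaH4_1_ord : Ord.{u} iv MuaH4_1_R [1,2,3,4,5,6] 20160 :=
  (MuaH4_1_idx.ord_step MuaH4_2_ord).of_cons (cons_of_subset (by decide +kernel))

theorem MuaH4_0_ord : Ord.{u} iv MuaH4_0_R [1,2,3,4,5,6,7] 3265920 :=
  (MuaH4_0_idx.ord_step MuaH4_1_ord).of_cons (cons_of_subset (by decide +kernel))

theorem MuaH4_lb : 3265920 ≤ Nat.card (cl (gp nets) [1,2,3,4,5,6,7]) :=
  lb_of_chainB nets_ok (C := [([1,2,3,4,5,6],[7,5,3,4,6,1,5,3,4,6,7,5,3,4,1],3,3,162),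
 ([1,2,3,4,5],[6,1,5,1,3,4,6,5],26228,26228,21),
 ([1,2,3,4],[5,3,4,1,1,3,5,1],26249,26249,20),
 ([],[1,3,4,1,3,4,1],16196,16196,48)]) (by decide +kernel)

theorem MuaH5_7_ord : Ord.{u} iv MuaH5_7_R [1,2] 3 :=
  (MuaH5_7_idx.ord_base).of_cons (cons_of_subset (by decide +kernel))

theorem MuaH5_6_ord : Ord.{u} iv MuaH5_6_R [1,2,4] 12 :=
  (MuaH5_6_idx.ord_step MuaH5_7_ord).of_cons (cons_of_subset (by decide +kernel))

theorem MuaH5_5_ord : Ord.{u} iv MuaH5_5_R [1,2,4,5] 60 :=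
  (MuaH5_5_idx.ord_step MuaH5_6_ord).of_cons (cons_of_subset (by decide +kernel))

theorem MuaH5_4_ord : Ord.{u} iv MuaH5_4_R [1,2,3,4,5] 960 :=
  (MuaH5_4_idx.ord_step MuaH5_5_ord).of_cons (cons_of_subset (by decide +kernel))

theorem MuaH5_3_ord : Ord.{u} iv MuaH5_3_R [1,2,3,4,5,6] 20160 :=
  (MuaH5_3_idx.ord_step MuaH5_4_ord).of_cons (cons_of_subset (by decide +kernel))

theorem MuaH5_2_ord : Ord.{u} iv MuaH5_2_R [1,2,3,4,5,6,7] 3265920 :=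
  (MuaH5_2_idx.ord_step MuaH5_3_ord).of_cons (cons_of_subset (by decide +kernel))

theorem MuaH5_1_ord : Ord.{u} iv MuaH5_1_R [1,2,3,4,5,6,7,8] 9196830720 :=
  (MuaH5_1_idx.ord_step MuaH5_2_ord).of_cons (cons_of_subset (by decide +kernel))

theorem MuaH5_0_ord : Ord.{u} iv MuaH5_0_R [1,2,3,4,5,6,7,8,9] 42305421312000 :=
  (MuaH5_0_idx.ord_step MuaH5_1_ord).of_cons (cons_of_subset (by decide +kernel))

theorem MuaH5_lb : 42305421312000 ≤ Nat.card (cl (gp nets) [1,2,3,4,5,6,7,8,9]) :=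
  lb_of_chainB nets_ok (C := [([1,2,3,4,5,6,7,8],[9,1,3,4,6,1,5,8,9,1,7,5,4,8,1,6,9,1,5,8,7,5,3,9,4,1,6,8,4,5,7,9],1,1,4600),
 ([1,2,3,4,5,6,7],[8,1,5,6,7,3,4,1,5,8,4,1,5,6,7,4,5,8,1,6,5,4,1,8],51176,51176,2816),
 ([1,2,3,4,5,6],[7,5,3,4,6,1,5,3,4,6,7,5,3,4,1],3,3,162),
 ([1,2,3,4,5],[6,1,5,1,3,4,6,5],26228,26228,21),
 ([1,2,3,4],[5,3,4,1,1,3,5,1],26249,26249,20),
 ([],[1,3,4,1,3,4,1],16196,16196,48)]) (by decide +kernel)

theorem Mua_mb : MB (cl (gp nets) L) 1381380 2 :=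
  mb_cyc (w := 49) (n := 127) (La := L) (ix := nth 0 [0,0,0,0,1,7,12,18,24,33,43]) (by norm_num) (by norm_num) (nets_iv.sval _) (nets_rel.sval fun r hr x hx => mem_cl (sub_of_allR (by decide +kernel) r hr x hx)) (by decide +kernel)
    (TStep.trans (TStep.trans (TStep.trans (TStep.trans (TStep.trans (TStep.trans (TStep.trans (TStep.trans (TStep.trans (TStep.trans (TStep.trans (TStep.trans (TStep.trans (TStep.trans (TStep.trans (TStep.trans (TStep.trans (TStep.trans (TStep.trans (TStep.trans (TStep.trans (TStep.trans (TStep.trans (TStep.trans (TStep.trans (TStep.trans (TStep.trans (TStep.trans (TStep.trans (TStep.trans (TStep.repar (k' := 118) (by norm_num) (by norm_num) (by decide +kernel) (by decide +kernel) Mua1_b)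
    (TStep.enum0 (by norm_num) (by norm_num) Mua2_0 (Gs := Mua2G) (by decide +kernel)))
    (TStep.repar (k' := 113) (by norm_num) (by norm_num) (by decide +kernel) (by decide +kernel) Mua3_b))
    (TStep.enum0 (by norm_num) (by norm_num) Mua4_0 (Gs := Mua4G) (by decide +kernel)))
    (TStep.repar (k' := 109) (by norm_num) (by norm_num) (by decide +kernel) (by decide +kernel) Mua5_b))
    (TStep.enum0 (by norm_num) (by norm_num) Mua6_0 (Gs := Mua6G) (by decide +kernel)))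
    (TStep.repar (k' := 99) (by norm_num) (by norm_num) (by decide +kernel) (by decide +kernel) Mua7_b))
    (TStep.enum0 (by norm_num) (by norm_num) Mua8_0 (Gs := Mua8G) (by decide +kernel)))
    (TStep.repar (k' := 86) (by norm_num) (by norm_num) (by decide +kernel) (by decide +kernel) Mua9_b))
    (TStep.enum0 (by norm_num) (by norm_num) Mua10_0 (Gs := Mua10G) (by decide +kernel)))
    (TStep.repar (k' := 72) (by norm_num) (by norm_num) (by decide +kernel) (by decide +kernel) Mua11_b))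
    (TStep.enum0 (by norm_num) (by norm_num) Mua12_0 (Gs := Mua12G) (by decide +kernel)))
    (TStep.repar (k' := 53) (by norm_num) (by norm_num) (by decide +kernel) (by decide +kernel) Mua13_b))
    (TStep.enum0 (by norm_num) (by norm_num) Mua14_0 (Gs := Mua14G) (by decide +kernel)))
    (TStep.repar (k' := 16) (by norm_num) (by norm_num) (by decide +kernel) (by decide +kernel) Mua15_b))
    (TStep.enum (by norm_num) (by norm_num) Mua16_0 (I := [0,1,2,3,4,5,6,24,25,26,29,31,43,44,45,48,49,52,65,67,73,82,86,89,90,94,95,97,98,102,105,107,108,109,116,117,126]) (by decide +kernel) (by decide +kernel) MuaH0_0_ord (c := 1) (lb_sval (fun _ hx => mem_cl (sub_of_subB (by decide +kernel) _ hx)) MuaH0_lb (by norm_num)) (Gs := Mua16G) (by decide +kernel)))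
    (TStep.repar (k' := 9) (by norm_num) (by norm_num) (by decide +kernel) (by decide +kernel) Mua17_b))
    (TStep.repar (k' := 9) (by norm_num) (by norm_num) (by decide +kernel) (by decide +kernel) Mua18_b))
    (TStep.enum (by norm_num) (by norm_num) Mua19_0 (I := [0,12,13,18,20,22,24,25,27,28,33,35,37,39,41,68,69,70,74,79,81,122,123,125]) (by decide +kernel) (by decide +kernel) MuaH1_0_ord (c := 1) (lb_sval (fun _ hx => mem_cl (sub_of_subB (by decide +kernel) _ hx)) MuaH1_lb (by norm_num)) (Gs := Mua19G) (by decide +kernel)))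
    (TStep.repar (k' := 7) (by norm_num) (by norm_num) (by decide +kernel) (by decide +kernel) Mua20_b))
    (TStep.enum (by norm_num) (by norm_num) Mua21_0 (I := [2,7,8,12,14,15,18,19,22,23,33,34,35,36,39,63,64,77,78,81,99,100,103,110,112,113,114,118,119,126]) (by decide +kernel) (by decide +kernel) MuaH2_0_ord (c := 1) (lb_sval (fun _ hx => mem_cl (sub_of_subB (by decide +kernel) _ hx)) MuaH2_lb (by norm_num)) (Gs := Mua21G) (by decide +kernel)))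
    (TStep.repar (k' := 5) (by norm_num) (by norm_num) (by decide +kernel) (by decide +kernel) Mua22_b))
    (TStep.enum (by norm_num) (by norm_num) Mua23_0 (I := [0,1,2,3,4,5,6,7,8,9,10,11,18,19,20,21,23,63,64,66,95,102,104,105,106,108,112,114,126]) (by decide +kernel) (by decide +kernel) MuaH3_0_ord (c := 1) (lb_sval (fun _ hx => mem_cl (sub_of_subB (by decide +kernel) _ hx)) MuaH3_lb (by norm_num)) (Gs := Mua23G) (by decide +kernel)))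
    (TStep.repar (k' := 4) (by norm_num) (by norm_num) (by decide +kernel) (by decide +kernel) Mua24_b))
    (TStep.enum (by norm_num) (by norm_num) Mua25_0 (I := [0,1,2,3,4,5,6,7,8,9,10,11,12,13,14,15,16,17,18,19,20,21,22,23,62,63,64,66,68,93,95,96,102,104,105,106,108,112,113,114,121,122,126]) (by decide +kernel) (by decide +kernel) MuaH4_0_ord (c := 1) (lb_sval (fun _ hx => mem_cl (sub_of_subB (by decide +kernel) _ hx)) MuaH4_lb (by norm_num)) (Gs := Mua25G) (by decide +kernel)))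
    (TStep.repar (k' := 2) (by norm_num) (by norm_num) (by decide +kernel) (by decide +kernel) Mua26_b))
    (TStep.enum (by norm_num) (by norm_num) Mua27_0 (I := (apd [0,1,2,3,4,5,6,7,8,9,10,11,12,13,14,15,16,17,18,19,20,21,22,23,24,25,26,27,28,29,30,31,32,33,34,35,36,37,38,39,40,41,42,62,63,64,66,67,68,69,70,71,74,76,77,78,79,80,81,93]
 [94,95,96,97,98,99,100,102,103,104,105,106,108,110,112,113,114,116,118,119,121,122,123,124,125,126])) (by decide +kernel) (by decide +kernel) MuaH5_0_ord (c := 1) (lb_sval (fun _ hx => mem_cl (sub_of_subB (by decide +kernel) _ hx)) MuaH5_lb (by norm_num)) (Gs := Mua27G) (by decide +kernel)))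
    (TStep.repar (k' := 1) (by norm_num) (by norm_num) (by decide +kernel) (by decide +kernel) Mua28_b))
    (TStep.enum (by norm_num) (by norm_num) Mua29_0 (I := (apd [0,1,2,3,4,5,6,7,8,9,10,11,12,13,14,15,16,17,18,19,20,21,22,23,24,25,26,27,28,29,30,31,32,33,34,35,36,37,38,39,40,41,42,62,63,64,66,67,68,69,70,71,74,76,77,78,79,80,81,93]
 [94,95,96,97,98,99,100,102,103,104,105,106,108,110,112,113,114,116,118,119,121,122,123,124,125,126])) (by decide +kernel) (by decide +kernel) MuaH5_0_ord (c := 1) (lb_sval (fun _ hx => mem_cl (sub_of_subB (by decide +kernel) _ hx)) MuaH5_lb (by norm_num)) (Gs := Mua29G) (by decide +kernel)))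
    (TStep.repar (k' := 1) (by norm_num) (by norm_num) (by decide +kernel) (by decide +kernel) Mua30_b))
    (TStep.cons (by norm_num) (by norm_num) (c := (nat_lit 0x1)) (v := 2) (by decide +kernel) (by decide +kernel)))
    (by norm_num) List.mem_cons_self (by norm_num)
    (TStep.repar (k' := 0) (by norm_num) (by norm_num) (by decide +kernel) (by decide +kernel) Mua32_b)
    (L := [1,2,3,4,5,6,7,8,9,10]) (I := (apd [0,1,2,3,4,5,6,7,8,9,10,11,12,13,14,15,16,17,18,19,20,21,22,23,24,25,26,27,28,29,30,31,32,33,34,35,36,37,38,39,40,41,42,43,44,45,46,47,48,49,50,51,52,53,54,55,56,57,58,59]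
 (apd [60,61,62,63,64,65,66,67,68,69,70,71,72,73,74,75,76,77,78,79,80,81,82,83,84,85,86,87,88,89,90,91,92,93,94,95,96,97,98,99,100,101,102,103,104,105,106,107,108,109,110,111,112,113,114,115,116,117,118,119]
 [120,121,122,123,124,125,126]))) (by decide +kernel) (by decide +kernel) ord card.ge (cl_sval_top _ _)

end Cfsg.Lib.Comp.Co1y
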