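import Cfsg.Agent.Lib.Comp.Co1y.Base

set_option maxRecDepth 100000
set_option Elab.async false

namespace Cfsg.Lib.Comp.Co1y

universe u

noncomputable def MuaH2_0_R : List (List ℕ × ℕ) := [([1],2),
 ([5],1),
 ([1,5],1),
 ([6],1),
 ([1,6],2),
 ([5,6],2),
 ([7],1),
 ([1,7],1),
 ([6,7],1),
 ([5,7],2),
 ([9],1),
 ([5,9],1),
 ([7,9],1),
 ([1,9],2),
 ([6,9],2),
 ([1,1,5],1),
 ([1,1,7],1),
 ([1,5,1,9,5,9],0),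
 ([1,7,1,9,7,9],0),
 ([6,7,6,9,7,9],0),
 ([1,6,1,9],1),
 ([1,6,9,6],1),
 ([1,1,1,9],1),
 ([1,5,1,9],1),
 ([1,5,7,5],1),
 ([1,6,2,6],1),
 ([1,7,5,7],1),
 ([1,9,2,9],1),
 ([1,9,6,9],1),
 ([1,2],0)]

noncomputable def MuaH2_0_n_1 : Net :=
 (Net.cons 2 (nat_lit 0x2)
 (Net.cons 1 (nat_lit 0x4)
 Net.nil))

noncomputable def MuaH2_0_n_5 : Net :=
 (Net.cons 1 (nat_lit 0x14)
 Net.nil)

noncomputable def MuaH2_0_n_6 : Net :=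
 (Net.cons 4 (nat_lit 0x2)
 (Net.cons 1 (nat_lit 0x14)
 (Net.cons 4 (nat_lit 0x2)
 Net.nil)))

noncomputable def MuaH2_0_n_7 : Net :=
 (Net.cons 2 (nat_lit 0x20)
 (Net.cons 1 (nat_lit 0x44)
 (Net.cons 2 (nat_lit 0x20)
 Net.nil)))

noncomputable def MuaH2_0_n_9 : Net :=
 (Net.cons 1 (nat_lit 0x5)
 Net.nil)

noncomputable def MuaH2_0_n : List Net := [Net.nil,
 MuaH2_0_n_1,
 Net.rev MuaH2_0_n_1,
 Net.nil,
 Net.nil,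
 MuaH2_0_n_5,
 MuaH2_0_n_6,
 MuaH2_0_n_7,
 Net.nil,
 MuaH2_0_n_9]

theorem MuaH2_0_n_ok : NetsOK 8 MuaH2_0_n := netsOK_of (by decide +kernel)

theorem MuaH2_0_n_rel : Rels (gp MuaH2_0_n) MuaH2_0_R := rels_of_relsB (k := 3) MuaH2_0_n_ok (by norm_num) (by decide +kernel)

theorem MuaH2_0_fin : finB 8 MuaH2_0_n [1,2,5,6,7,9] 7 (runH 8 MuaH2_0_n (fun x p => ptInv (nth Net.nil MuaH2_0_n x) p) iv MuaH2_0_R [] ([1,2,5,6,7].map fun x => [x]) 0 []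
  [1,5,9,13,17,4,12,24,40,44,48,56,76,84,104,116,0,8,16,20,28,32,36,44,48,52,60,64,84,100,112,116]
  (defsH 8 MuaH2_0_n (ones 88) [9,1,2,6,5,7] (Nat.shiftLeft 1 0) 0)) = true := by decide +kernel

theorem MuaH2_0_idx : Idx.{u} iv (MuaH2_0_R ++ []) ([1,2,5,6,7].map fun x => [x]) [1,2,5,6,7,9] 7 :=
  Reach.idx MuaH2_0_n_ok (reach_runH MuaH2_0_n_ok (fun x p _ => ptInv_gp MuaH2_0_n_ok x p) MuaH2_0_n_rel (reach_defsH MuaH2_0_n_ok _ _ _ _ _ _) _ _) MuaH2_0_fin (by norm_num)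

end Cfsg.Lib.Comp.Co1y
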