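import Cfsg.Agent.Lib.Comp.Co1y.Base

set_option maxRecDepth 100000
set_option Elab.async false

namespace Cfsg.Lib.Comp.Co1y

universe u

noncomputable def MuaH4_1_R : List (List ℕ × ℕ) := [([3],1),
 ([4],1),
 ([1],2),
 ([3,4],1),
 ([1,3],2),
 ([1,4],2),
 ([1,4,2,3],1),
 ([5],1),
 ([1,5],1),
 ([4,5],2),
 ([3,5],4),
 ([1,5,4,3],2),
 ([6],1),
 ([3,6],1),
 ([1,6],2),
 ([5,6],2),
 ([4,6],3),
 ([1,3,5,6,1,4,5,3,1,4,1,5,6,5,3,4],0),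
 ([3,4,6,4,6],0),
 ([1,1,5],1),
 ([1,6,2,3],1),
 ([1,3,2,4],1),
 ([1,3,2,6],1),
 ([1,1,1,4],1),
 ([1,3,2,3],1),
 ([1,4,2,4],1),
 ([1,6,2,6],1),
 ([3,6,4,6],1),
 ([1,2],0)]

noncomputable def MuaH4_1_n_1 : Net :=
 (Net.cons 12 (nat_lit 0xf80)
 (Net.cons 6 (nat_lit 0x1a030)
 (Net.cons 3 (nat_lit 0x82186)
 (Net.cons 1 (nat_lit 0x201040)
 (Net.cons 1 (nat_lit 0x92090)
 (Net.cons 1 (nat_lit 0x9008)
 (Net.cons 3 (nat_lit 0x185186)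
 (Net.cons 6 (nat_lit 0x11030)
 (Net.cons 12 (nat_lit 0xf80)
 Net.nil)))))))))

noncomputable def MuaH4_1_n_3 : Net :=
 (Net.cons 12 (nat_lit 0x500)
 (Net.cons 6 (nat_lit 0x8018)
 (Net.cons 3 (nat_lit 0x106100)
 (Net.cons 1 (nat_lit 0x241048)
 (Net.cons 1 (nat_lit 0x412090)
 (Net.cons 1 (nat_lit 0x201048)
 (Net.cons 3 (nat_lit 0x106180)
 (Net.cons 6 (nat_lit 0x18018)
 (Net.cons 12 (nat_lit 0x500)
 Net.nil)))))))))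

noncomputable def MuaH4_1_n_4 : Net :=
 (Net.cons 12 (nat_lit 0xa4a)
 (Net.cons 6 (nat_lit 0x14012)
 (Net.cons 3 (nat_lit 0x106)
 (Net.cons 1 (nat_lit 0x200048)
 (Net.cons 1 (nat_lit 0x80402)
 (Net.cons 3 (nat_lit 0x106)
 (Net.cons 6 (nat_lit 0x35012)
 (Net.cons 12 (nat_lit 0xa4a)
 Net.nil))))))))

noncomputable def MuaH4_1_n_5 : Net :=
 (Net.cons 12 (nat_lit 0xb80)
 (Net.cons 6 (nat_lit 0x20008)
 (Net.cons 3 (nat_lit 0x186000)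
 (Net.cons 1 (nat_lit 0x248000)
 (Net.cons 1 (nat_lit 0x82080)
 (Net.cons 1 (nat_lit 0x40000)
 (Net.cons 3 (nat_lit 0x186046)
 (Net.cons 6 (nat_lit 0x2a008)
 (Net.cons 12 (nat_lit 0xb80)
 Net.nil)))))))))

noncomputable def MuaH4_1_n_6 : Net :=
 (Net.cons 12 (nat_lit 0xb60)
 (Net.cons 6 (nat_lit 0x20)
 (Net.cons 3 (nat_lit 0x100104)
 (Net.cons 1 (nat_lit 0x249049)
 (Net.cons 1 (nat_lit 0x410090)
 (Net.cons 1 (nat_lit 0x208048)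
 (Net.cons 3 (nat_lit 0x4104)
 (Net.cons 6 (nat_lit 0x2f020)
 (Net.cons 12 (nat_lit 0xb60)
 Net.nil)))))))))

noncomputable def MuaH4_1_n : List Net := [Net.nil,
 MuaH4_1_n_1,
 Net.rev MuaH4_1_n_1,
 MuaH4_1_n_3,
 MuaH4_1_n_4,
 MuaH4_1_n_5,
 MuaH4_1_n_6]

theorem MuaH4_1_n_ok : NetsOK 24 MuaH4_1_n := netsOK_of (by decide +kernel)

theorem MuaH4_1_n_rel : Rels (gp MuaH4_1_n) MuaH4_1_R := rels_of_relsB (k := 5) MuaH4_1_n_ok (by norm_num) (by decide +kernel)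

theorem MuaH4_1_fin : finB 24 MuaH4_1_n [1,2,3,4,5,6] 21 (runH 24 MuaH4_1_n (fun x p => ptInv (nth Net.nil MuaH4_1_n x) p) iv MuaH4_1_R [] ([1,2,3,4,5].map fun x => [x]) 0 []
  [1,5,9,13,17,0,4,12,28,32,48,52,60,72,108,112,8,32,36,56,60,80,88,104,112,8,28,32,48,52,104,68,16,20,56,80,88,92,96,100,104,112,24,32,36,40,44,60,72,112,36,40]
  (defsH 24 MuaH4_1_n (ones 264) [6,1,2,5,6,1,3,4,5] (Nat.shiftLeft 1 0) 0)) = true := by decide +kernel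

theorem MuaH4_1_idx : Idx.{u} iv (MuaH4_1_R ++ []) ([1,2,3,4,5].map fun x => [x]) [1,2,3,4,5,6] 21 :=
  Reach.idx MuaH4_1_n_ok (reach_runH MuaH4_1_n_ok (fun x p _ => ptInv_gp MuaH4_1_n_ok x p) MuaH4_1_n_rel (reach_defsH MuaH4_1_n_ok _ _ _ _ _ _) _ _) MuaH4_1_fin (by norm_num)

end Cfsg.Lib.Comp.Co1y
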