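import Cfsg.Agent.Lib.Comp.Co1y.Base

set_option maxRecDepth 100000
set_option Elab.async false

namespace Cfsg.Lib.Comp.Co1y

universe u

noncomputable def MuaH5_6_R : List (List ℕ × ℕ) := [([4],1),
 ([1],2),
 ([1,4],2),
 ([1,1,1,4],1),
 ([1,4,2,4],1),
 ([1,2],0)]

noncomputable def MuaH5_6_n_1 : Net :=
 (Net.cons 2 (nat_lit 0x2)
 (Net.cons 1 (nat_lit 0x4)
 Net.nil))

noncomputable def MuaH5_6_n_4 : Net :=
 (Net.cons 1 (nat_lit 0x5)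
 Net.nil)

noncomputable def MuaH5_6_n : List Net := [Net.nil,
 MuaH5_6_n_1,
 Net.rev MuaH5_6_n_1,
 Net.nil,
 MuaH5_6_n_4]

theorem MuaH5_6_n_ok : NetsOK 4 MuaH5_6_n := netsOK_of (by decide +kernel)

theorem MuaH5_6_n_rel : Rels (gp MuaH5_6_n) MuaH5_6_R := rels_of_relsB (k := 2) MuaH5_6_n_ok (by norm_num) (by decide +kernel)

theorem MuaH5_6_fin : finB 4 MuaH5_6_n [1,2,4] 4 (runH 4 MuaH5_6_n (fun x p => ptInv (nth Net.nil MuaH5_6_n x) p) iv MuaH5_6_R [] ([1,2].map fun x => [x]) 0 []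
  [1,5,0,20,4,8,12,16]
  (defsH 4 MuaH5_6_n (ones 44) [4,1,2] (Nat.shiftLeft 1 0) 0)) = true := by decide +kernel

theorem MuaH5_6_idx : Idx.{u} iv (MuaH5_6_R ++ []) ([1,2].map fun x => [x]) [1,2,4] 4 :=
  Reach.idx MuaH5_6_n_ok (reach_runH MuaH5_6_n_ok (fun x p _ => ptInv_gp MuaH5_6_n_ok x p) MuaH5_6_n_rel (reach_defsH MuaH5_6_n_ok _ _ _ _ _ _) _ _) MuaH5_6_fin (by norm_num)

end Cfsg.Lib.Comp.Co1y
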