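import Cfsg.Agent.Lib.Comp.Co1y.Perm0

set_option maxRecDepth 100000
set_option Elab.async false

namespace Cfsg.Lib.Comp.Co1y

universe u

theorem nets_r0_0 : eqB 98304 17 0 17 nets [3] 1 [] = true := by decide +kernel

theorem nets_r1_0 : eqB 98304 17 0 17 nets [4] 1 [] = true := by decide +kernel

theorem nets_r2_0 : eqB 98304 17 0 17 nets [1] 2 [] = true := by decide +kernel

theorem nets_r3_0 : eqB 98304 17 0 17 nets [3,4] 1 [] = true := by decide +kernel

theorem nets_r4_0 : eqB 98304 17 0 17 nets [1,3] 2 [] = true := by decide +kernel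

theorem nets_r5_0 : eqB 98304 17 0 17 nets [1,4] 2 [] = true := by decide +kernel

theorem nets_r6_0 : eqB 98304 17 0 17 nets [1,4,2,3] 1 [] = true := by decide +kernel

theorem nets_r7_0 : eqB 98304 17 0 17 nets [5] 1 [] = true := by decide +kernel

theorem nets_r8_0 : eqB 98304 17 0 17 nets [1,5] 1 [] = true := by decide +kernel

theorem nets_r9_0 : eqB 98304 17 0 17 nets [4,5] 2 [] = true := by decide +kernel

theorem nets_r10_0 : eqB 98304 17 0 17 nets [3,5] 4 [] = true := by decide +kernel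

theorem nets_r11_0 : eqB 98304 17 0 17 nets [1,5,4,3] 2 [] = true := by decide +kernel

theorem nets_r12_0 : eqB 98304 17 0 17 nets [6] 1 [] = true := by decide +kernel

theorem nets_r13_0 : eqB 98304 17 0 17 nets [3,6] 1 [] = true := by decide +kernel

theorem nets_r14_0 : eqB 98304 17 0 17 nets [1,6] 2 [] = true := by decide +kernel

theorem nets_r15_0 : eqB 98304 17 0 17 nets [5,6] 2 [] = true := by decide +kernel

theorem nets_r16_0 : eqB 98304 17 0 17 nets [4,6] 3 [] = true := by decide +kernel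

theorem nets_r17_0 : eqB 98304 17 0 17 nets [1,3,5,6,1,4,5,3,1,4,1,5,6,5,3,4] 0 [] = true := by decide +kernel

theorem nets_r18_0 : eqB 98304 17 0 17 nets [7] 1 [] = true := by decide +kernel

theorem nets_r19_0 : eqB 98304 17 0 17 nets [1,7] 1 [] = true := by decide +kernel

theorem nets_r20_0 : eqB 98304 17 0 17 nets [3,7] 1 [] = true := by decide +kernel

theorem nets_r21_0 : eqB 98304 17 0 17 nets [4,7] 1 [] = true := by decide +kernel

theorem nets_r22_0 : eqB 98304 17 0 17 nets [6,7] 1 [] = true := by decide +kernel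

theorem nets_r23_0 : eqB 98304 17 0 17 nets [5,7] 2 [] = true := by decide +kernel

theorem nets_r24_0 : eqB 98304 17 0 17 nets [8] 1 [] = true := by decide +kernel

theorem nets_r25_0 : eqB 98304 17 0 17 nets [3,8] 1 [] = true := by decide +kernel

theorem nets_r26_0 : eqB 98304 17 0 17 nets [4,8] 1 [] = true := by decide +kernel

theorem nets_r27_0 : eqB 98304 17 0 17 nets [6,8] 1 [] = true := by decide +kernel

theorem nets_r28_0 : eqB 98304 17 0 17 nets [7,8] 1 [] = true := by decide +kernel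

theorem nets_r29_0 : eqB 98304 17 0 17 nets [1,8] 2 [] = true := by decide +kernel

theorem nets_r30_0 : eqB 98304 17 0 17 nets [5,8] 2 [] = true := by decide +kernel

theorem nets_r31_0 : eqB 98304 17 0 17 nets [1,8,2,4] 1 [] = true := by decide +kernel

theorem nets_r32_0 : eqB 98304 17 0 17 nets [1,3,5,2,6,2,8,2,6,5,7,3,5,6,1,8,1,6,5,7] 0 [] = true := by decide +kernel

theorem nets_r33_0 : eqB 98304 17 0 17 nets [9] 1 [] = true := by decide +kernel

theorem nets_r34_0 : eqB 98304 17 0 17 nets [5,9] 1 [] = true := by decide +kernel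

theorem nets_r35_0 : eqB 98304 17 0 17 nets [7,9] 1 [] = true := by decide +kernel

theorem nets_r36_0 : eqB 98304 17 0 17 nets [1,9] 2 [] = true := by decide +kernel

theorem nets_r37_0 : eqB 98304 17 0 17 nets [3,9] 2 [] = true := by decide +kernel

theorem nets_r38_0 : eqB 98304 17 0 17 nets [4,9] 2 [] = true := by decide +kernel

theorem nets_r39_0 : eqB 98304 17 0 17 nets [6,9] 2 [] = true := by decide +kernel

theorem nets_r40_0 : eqB 98304 17 0 17 nets [1,3,1,9,2,6,2,9,3,2,6] 0 [] = true := by decide +kernel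

theorem nets_r41_0 : eqB 98304 17 0 17 nets [8,9] 2 [] = true := by decide +kernel

theorem nets_r42_0 : eqB 98304 17 0 17 nets [3,4,8,9,3,4,9,8,9,4,3,9] 0 [] = true := by decide +kernel

theorem nets_r43_0 : eqB 98304 17 0 17 nets [10] 1 [] = true := by decide +kernel

theorem nets_r44_0 : eqB 98304 17 0 17 nets [1,10] 1 [] = true := by decide +kernel

theorem nets_r45_0 : eqB 98304 17 0 17 nets [4,10] 1 [] = true := by decide +kernel

theorem nets_r46_0 : eqB 98304 17 0 17 nets [5,10] 1 [] = true := by decide +kernel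

theorem nets_r47_0 : eqB 98304 17 0 17 nets [7,10] 1 [] = true := by decide +kernel

theorem nets_r48_0 : eqB 98304 17 0 17 nets [8,10] 1 [] = true := by decide +kernel

theorem nets_r49_0 : eqB 98304 17 0 17 nets [3,8,10,3,10] 0 [] = true := by decide +kernel

theorem nets_r50_0 : eqB 98304 17 0 17 nets [6,10] 3 [] = true := by decide +kernel

theorem nets_r51_0 : eqB 98304 17 0 17 nets [9,10] 2 [] = true := by decide +kernel

theorem nets_r52_0 : eqB 98304 17 0 17 nets [3,10] 3 [] = true := by decide +kernel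

theorem nets_r53_0 : eqB 98304 17 0 9 nets [1,3,5,7,9,4,10] 11 [] = true := by decide +kernel

theorem nets_r53_9 : eqB 98304 17 9 8 nets [1,3,5,7,9,4,10] 11 [] = true := by decide +kernel

theorem nets_r54_0 : eqB 98304 17 0 17 nets [1,8,1,9,2,10,9,2,8,2,9,10,2,9] 0 [] = true := by decide +kernel

theorem nets_r55_0 : eqB 98304 17 0 17 nets [1,1,6,2,9,10,1,10,6,2,9] 0 [] = true := by decide +kernel

theorem nets_r56_0 : eqB 98304 17 0 17 nets [1,6,8,2,9,10,9,2,8,6,1,9,10,9] 0 [] = true := by decide +kernel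

theorem nets_r57_0 : eqB 98304 17 0 17 nets [1,3,10,1,5,10,3,2,5,3,5] 0 [] = true := by decide +kernel

theorem nets_r58_0 : eqB 98304 17 0 17 nets [3,4,5,3,4,5,4,9,3,5,4,3,9,10,3,5,8,5,3,5,4,10,9] 0 [] = true := by decide +kernel

theorem nets_r59_0 : eqB 98304 17 0 17 nets [4,8,5,9,4,8,5,9,10,9,4,8,5,9,4,10,8,9,5,8,4,9,10,5,9] 0 [] = true := by decide +kernel

theorem nets_r60_0 : eqB 98304 17 0 17 nets [3,6,4,6,10,4,10] 0 [] = true := by decide +kernel

theorem nets_r61_0 : eqB 98304 17 0 17 nets [1,4,10,6,2,4,6,2,4,6,10] 0 [] = true := by decide +kernel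

theorem nets_r62_0 : eqB 98304 17 0 17 nets [3,4,6,4,6] 0 [] = true := by decide +kernel

theorem nets_r63_0 : eqB 98304 17 0 17 nets [1,1,5] 1 [] = true := by decide +kernel

theorem nets_r64_0 : eqB 98304 17 0 17 nets [1,1,7] 1 [] = true := by decide +kernel

theorem nets_r65_0 : eqB 98304 17 0 17 nets [1,1,10] 1 [] = true := by decide +kernel

theorem nets_r66_0 : eqB 98304 17 0 17 nets [3,4,7] 1 [] = true := by decide +kernel

theorem nets_r67_0 : eqB 98304 17 0 17 nets [3,4,8] 1 [] = true := by decide +kernel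

theorem nets_r68_0 : eqB 98304 17 0 17 nets [3,6,7] 1 [] = true := by decide +kernel

theorem nets_r69_0 : eqB 98304 17 0 17 nets [3,6,8] 1 [] = true := by decide +kernel

theorem nets_r70_0 : eqB 98304 17 0 17 nets [3,7,8] 1 [] = true := by decide +kernel

theorem nets_r71_0 : eqB 98304 17 0 17 nets [4,7,8] 1 [] = true := by decide +kernel

theorem nets_r72_0 : eqB 98304 17 0 17 nets [4,7,10] 1 [] = true := by decide +kernel

theorem nets_r73_0 : eqB 98304 17 0 17 nets [4,8,10] 1 [] = true := by decide +kernel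

theorem nets_r74_0 : eqB 98304 17 0 17 nets [6,7,8] 1 [] = true := by decide +kernel

theorem nets_r75_0 : eqB 98304 17 0 17 nets [7,8,10] 1 [] = true := by decide +kernel

theorem nets_r76_0 : eqB 98304 17 0 17 nets [1,7,1,8,7,8] 0 [] = true := by decide +kernel

theorem nets_r77_0 : eqB 98304 17 0 17 nets [1,5,1,9,5,9] 0 [] = true := by decide +kernel

theorem nets_r78_0 : eqB 98304 17 0 17 nets [1,7,1,9,7,9] 0 [] = true := by decide +kernel

theorem nets_r79_0 : eqB 98304 17 0 17 nets [3,7,3,9,7,9] 0 [] = true := by decide +kernel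

theorem nets_r80_0 : eqB 98304 17 0 17 nets [4,7,4,9,7,9] 0 [] = true := by decide +kernel

theorem nets_r81_0 : eqB 98304 17 0 17 nets [6,7,6,9,7,9] 0 [] = true := by decide +kernel

theorem nets_r82_0 : eqB 98304 17 0 17 nets [3,4,3,10,4,10] 0 [] = true := by decide +kernel

theorem nets_r83_0 : eqB 98304 17 0 17 nets [3,7,3,10,7,10] 0 [] = true := by decide +kernel

theorem nets_r84_0 : eqB 98304 17 0 17 nets [6,7,6,10,7,10] 0 [] = true := by decide +kernel

theorem nets_r85_0 : eqB 98304 17 0 17 nets [6,8,6,10,8,10] 0 [] = true := by decide +kernel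

theorem nets_r86_0 : eqB 98304 17 0 17 nets [3,4,8,10,3,10,4] 0 [] = true := by decide +kernel

theorem nets_r87_0 : eqB 98304 17 0 17 nets [3,6,8,10,3,10,6] 0 [] = true := by decide +kernel

theorem nets_r88_0 : eqB 98304 17 0 17 nets [3,7,8,10,3,10,7] 0 [] = true := by decide +kernel

theorem nets_r89_0 : eqB 98304 17 0 17 nets [1,3,10,3,8,1,10] 0 [] = true := by decide +kernel

theorem nets_r90_0 : eqB 98304 17 0 17 nets [1,8,3,10,3,1,10] 0 [] = true := by decide +kernel

theorem nets_r91_0 : eqB 98304 17 0 17 nets [3,5,10,5,8,3,10] 0 [] = true := by decide +kernel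

theorem nets_r92_0 : eqB 98304 17 0 17 nets [3,6,8,6,10,3,10] 0 [] = true := by decide +kernel

theorem nets_r93_0 : eqB 98304 17 0 17 nets [1,6,2,3] 1 [] = true := by decide +kernel

theorem nets_r94_0 : eqB 98304 17 0 17 nets [1,8,2,3] 1 [] = true := by decide +kernel

theorem nets_r95_0 : eqB 98304 17 0 17 nets [1,3,2,4] 1 [] = true := by decide +kernel

theorem nets_r96_0 : eqB 98304 17 0 17 nets [1,3,2,6] 1 [] = true := by decide +kernel

theorem nets_r97_0 : eqB 98304 17 0 17 nets [1,3,2,8] 1 [] = true := by decide +kernel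

theorem nets_r98_0 : eqB 98304 17 0 17 nets [1,4,2,8] 1 [] = true := by decide +kernel

theorem nets_r99_0 : eqB 98304 17 0 17 nets [1,6,1,9] 1 [] = true := by decide +kernel

theorem nets_r100_0 : eqB 98304 17 0 17 nets [1,6,9,6] 1 [] = true := by decide +kernel

theorem nets_r101_0 : eqB 98304 17 0 17 nets [3,10,6,10] 1 [] = true := by decide +kernel

theorem nets_r102_0 : eqB 98304 17 0 17 nets [1,1,1,4] 1 [] = true := by decide +kernel

theorem nets_r103_0 : eqB 98304 17 0 17 nets [1,1,1,9] 1 [] = true := by decide +kernel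

theorem nets_r104_0 : eqB 98304 17 0 17 nets [1,3,1,7] 1 [] = true := by decide +kernel

theorem nets_r105_0 : eqB 98304 17 0 17 nets [1,3,2,3] 1 [] = true := by decide +kernel

theorem nets_r106_0 : eqB 98304 17 0 17 nets [1,3,7,3] 1 [] = true := by decide +kernel

theorem nets_r107_0 : eqB 98304 17 0 17 nets [1,4,1,10] 1 [] = true := by decide +kernel

theorem nets_r108_0 : eqB 98304 17 0 17 nets [1,4,2,4] 1 [] = true := by decide +kernel

theorem nets_r109_0 : eqB 98304 17 0 17 nets [1,4,10,4] 1 [] = true := by decide +kernel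

theorem nets_r110_0 : eqB 98304 17 0 17 nets [1,5,1,9] 1 [] = true := by decide +kernel

theorem nets_r111_0 : eqB 98304 17 0 17 nets [1,5,1,10] 1 [] = true := by decide +kernel

theorem nets_r112_0 : eqB 98304 17 0 17 nets [1,5,7,5] 1 [] = true := by decide +kernel

theorem nets_r113_0 : eqB 98304 17 0 17 nets [1,6,2,6] 1 [] = true := by decide +kernel

theorem nets_r114_0 : eqB 98304 17 0 17 nets [1,7,5,7] 1 [] = true := by decide +kernel

theorem nets_r115_0 : eqB 98304 17 0 17 nets [1,7,10,7] 1 [] = true := by decide +kernel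

theorem nets_r116_0 : eqB 98304 17 0 17 nets [1,8,2,8] 1 [] = true := by decide +kernel

theorem nets_r117_0 : eqB 98304 17 0 17 nets [1,8,10,8] 1 [] = true := by decide +kernel

theorem nets_r118_0 : eqB 98304 17 0 17 nets [1,9,2,9] 1 [] = true := by decide +kernel

theorem nets_r119_0 : eqB 98304 17 0 17 nets [1,9,6,9] 1 [] = true := by decide +kernel

theorem nets_r120_0 : eqB 98304 17 0 17 nets [1,10,5,10] 1 [] = true := by decide +kernel

theorem nets_r121_0 : eqB 98304 17 0 17 nets [3,6,4,6] 1 [] = true := by decide +kernel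

theorem nets_r122_0 : eqB 98304 17 0 17 nets [3,6,7,6] 1 [] = true := by decide +kernel

theorem nets_r123_0 : eqB 98304 17 0 17 nets [3,7,3,9] 1 [] = true := by decide +kernel

theorem nets_r124_0 : eqB 98304 17 0 17 nets [3,7,4,8] 1 [] = true := by decide +kernel

theorem nets_r125_0 : eqB 98304 17 0 17 nets [3,7,8,7] 1 [] = true := by decide +kernel

theorem nets_r126_0 : eqB 98304 17 0 17 nets [1,2] 0 [] = true := by decide +kernel

theorem nets_rel : Rels (gp nets) R := by
  unfold R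
  try simp only [apd_eq]
  intro r hr
  simp only [List.mem_append, List.mem_cons, List.not_mem_nil, or_false, or_assoc] at hr
  rcases hr with rfl | rfl | rfl | rfl | rfl | rfl | rfl | rfl | rfl | rfl | rfl | rfl | rfl | rfl | rfl | rfl | rfl | rfl | rfl | rfl | rfl | rfl | rfl | rfl | rfl | rfl | rfl | rfl | rfl | rfl | rfl | rfl | rfl | rfl | rfl | rfl | rfl | rfl | rfl | rfl | rfl | rfl | rfl | rfl | rfl | rfl | rfl | rfl | rfl | rfl | rfl | rfl | rfl | rfl | rfl | rfl | rfl | rfl | rfl | rfl | rfl | rfl | rfl | rfl | rfl | rfl | rfl | rfl | rfl | rfl | rfl | rfl | rfl | rfl | rfl | rfl | rfl | rfl | rfl | rfl | rfl | rfl | rfl | rfl | rfl | rfl | rfl | rfl | rfl | rfl | rfl | rfl | rfl | rfl | rfl | rfl | rfl | rfl | rfl | rfl | rfl | rfl | rfl | rfl | rfl | rfl | rfl | rfl | rfl | rfl | rfl | rfl | rfl | rfl | rfl | rfl | rfl | rfl | rfl | rfl | rfl | rfl | rfl | rfl | rfl | rfl | rfl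
  · exact AgreeBits.eq (k := 17) (agree_of_eqB nets_ok (by norm_num) nets_r0_0) (by norm_num) ((fx_ev nets_ok.fx _).pow _) (Fx.one _)
  · exact AgreeBits.eq (k := 17) (agree_of_eqB nets_ok (by norm_num) nets_r1_0) (by norm_num) ((fx_ev nets_ok.fx _).pow _) (Fx.one _)
  · exact AgreeBits.eq (k := 17) (agree_of_eqB nets_ok (by norm_num) nets_r2_0) (by norm_num) ((fx_ev nets_ok.fx _).pow _) (Fx.one _)
  · exact AgreeBits.eq (k := 17) (agree_of_eqB nets_ok (by norm_num) nets_r3_0) (by norm_num) ((fx_ev nets_ok.fx _).pow _) (Fx.one _)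
  · exact AgreeBits.eq (k := 17) (agree_of_eqB nets_ok (by norm_num) nets_r4_0) (by norm_num) ((fx_ev nets_ok.fx _).pow _) (Fx.one _)
  · exact AgreeBits.eq (k := 17) (agree_of_eqB nets_ok (by norm_num) nets_r5_0) (by norm_num) ((fx_ev nets_ok.fx _).pow _) (Fx.one _)
  · exact AgreeBits.eq (k := 17) (agree_of_eqB nets_ok (by norm_num) nets_r6_0) (by norm_num) ((fx_ev nets_ok.fx _).pow _) (Fx.one _)
  · exact AgreeBits.eq (k := 17) (agree_of_eqB nets_ok (by norm_num) nets_r7_0) (by norm_num) ((fx_ev nets_ok.fx _).pow _) (Fx.one _)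
  · exact AgreeBits.eq (k := 17) (agree_of_eqB nets_ok (by norm_num) nets_r8_0) (by norm_num) ((fx_ev nets_ok.fx _).pow _) (Fx.one _)
  · exact AgreeBits.eq (k := 17) (agree_of_eqB nets_ok (by norm_num) nets_r9_0) (by norm_num) ((fx_ev nets_ok.fx _).pow _) (Fx.one _)
  · exact AgreeBits.eq (k := 17) (agree_of_eqB nets_ok (by norm_num) nets_r10_0) (by norm_num) ((fx_ev nets_ok.fx _).pow _) (Fx.one _)
  · exact AgreeBits.eq (k := 17) (agree_of_eqB nets_ok (by norm_num) nets_r11_0) (by norm_num) ((fx_ev nets_ok.fx _).pow _) (Fx.one _)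
  · exact AgreeBits.eq (k := 17) (agree_of_eqB nets_ok (by norm_num) nets_r12_0) (by norm_num) ((fx_ev nets_ok.fx _).pow _) (Fx.one _)
  · exact AgreeBits.eq (k := 17) (agree_of_eqB nets_ok (by norm_num) nets_r13_0) (by norm_num) ((fx_ev nets_ok.fx _).pow _) (Fx.one _)
  · exact AgreeBits.eq (k := 17) (agree_of_eqB nets_ok (by norm_num) nets_r14_0) (by norm_num) ((fx_ev nets_ok.fx _).pow _) (Fx.one _)
  · exact AgreeBits.eq (k := 17) (agree_of_eqB nets_ok (by norm_num) nets_r15_0) (by norm_num) ((fx_ev nets_ok.fx _).pow _) (Fx.one _)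
  · exact AgreeBits.eq (k := 17) (agree_of_eqB nets_ok (by norm_num) nets_r16_0) (by norm_num) ((fx_ev nets_ok.fx _).pow _) (Fx.one _)
  · exact AgreeBits.eq (k := 17) (agree_of_eqB nets_ok (by norm_num) nets_r17_0) (by norm_num) ((fx_ev nets_ok.fx _).pow _) (Fx.one _)
  · exact AgreeBits.eq (k := 17) (agree_of_eqB nets_ok (by norm_num) nets_r18_0) (by norm_num) ((fx_ev nets_ok.fx _).pow _) (Fx.one _)
  · exact AgreeBits.eq (k := 17) (agree_of_eqB nets_ok (by norm_num) nets_r19_0) (by norm_num) ((fx_ev nets_ok.fx _).pow _) (Fx.one _)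
  · exact AgreeBits.eq (k := 17) (agree_of_eqB nets_ok (by norm_num) nets_r20_0) (by norm_num) ((fx_ev nets_ok.fx _).pow _) (Fx.one _)
  · exact AgreeBits.eq (k := 17) (agree_of_eqB nets_ok (by norm_num) nets_r21_0) (by norm_num) ((fx_ev nets_ok.fx _).pow _) (Fx.one _)
  · exact AgreeBits.eq (k := 17) (agree_of_eqB nets_ok (by norm_num) nets_r22_0) (by norm_num) ((fx_ev nets_ok.fx _).pow _) (Fx.one _)
  · exact AgreeBits.eq (k := 17) (agree_of_eqB nets_ok (by norm_num) nets_r23_0) (by norm_num) ((fx_ev nets_ok.fx _).pow _) (Fx.one _)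
  · exact AgreeBits.eq (k := 17) (agree_of_eqB nets_ok (by norm_num) nets_r24_0) (by norm_num) ((fx_ev nets_ok.fx _).pow _) (Fx.one _)
  · exact AgreeBits.eq (k := 17) (agree_of_eqB nets_ok (by norm_num) nets_r25_0) (by norm_num) ((fx_ev nets_ok.fx _).pow _) (Fx.one _)
  · exact AgreeBits.eq (k := 17) (agree_of_eqB nets_ok (by norm_num) nets_r26_0) (by norm_num) ((fx_ev nets_ok.fx _).pow _) (Fx.one _)
  · exact AgreeBits.eq (k := 17) (agree_of_eqB nets_ok (by norm_num) nets_r27_0) (by norm_num) ((fx_ev nets_ok.fx _).pow _) (Fx.one _)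
  · exact AgreeBits.eq (k := 17) (agree_of_eqB nets_ok (by norm_num) nets_r28_0) (by norm_num) ((fx_ev nets_ok.fx _).pow _) (Fx.one _)
  · exact AgreeBits.eq (k := 17) (agree_of_eqB nets_ok (by norm_num) nets_r29_0) (by norm_num) ((fx_ev nets_ok.fx _).pow _) (Fx.one _)
  · exact AgreeBits.eq (k := 17) (agree_of_eqB nets_ok (by norm_num) nets_r30_0) (by norm_num) ((fx_ev nets_ok.fx _).pow _) (Fx.one _)
  · exact AgreeBits.eq (k := 17) (agree_of_eqB nets_ok (by norm_num) nets_r31_0) (by norm_num) ((fx_ev nets_ok.fx _).pow _) (Fx.one _)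
  · exact AgreeBits.eq (k := 17) (agree_of_eqB nets_ok (by norm_num) nets_r32_0) (by norm_num) ((fx_ev nets_ok.fx _).pow _) (Fx.one _)
  · exact AgreeBits.eq (k := 17) (agree_of_eqB nets_ok (by norm_num) nets_r33_0) (by norm_num) ((fx_ev nets_ok.fx _).pow _) (Fx.one _)
  · exact AgreeBits.eq (k := 17) (agree_of_eqB nets_ok (by norm_num) nets_r34_0) (by norm_num) ((fx_ev nets_ok.fx _).pow _) (Fx.one _)
  · exact AgreeBits.eq (k := 17) (agree_of_eqB nets_ok (by norm_num) nets_r35_0) (by norm_num) ((fx_ev nets_ok.fx _).pow _) (Fx.one _)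
  · exact AgreeBits.eq (k := 17) (agree_of_eqB nets_ok (by norm_num) nets_r36_0) (by norm_num) ((fx_ev nets_ok.fx _).pow _) (Fx.one _)
  · exact AgreeBits.eq (k := 17) (agree_of_eqB nets_ok (by norm_num) nets_r37_0) (by norm_num) ((fx_ev nets_ok.fx _).pow _) (Fx.one _)
  · exact AgreeBits.eq (k := 17) (agree_of_eqB nets_ok (by norm_num) nets_r38_0) (by norm_num) ((fx_ev nets_ok.fx _).pow _) (Fx.one _)
  · exact AgreeBits.eq (k := 17) (agree_of_eqB nets_ok (by norm_num) nets_r39_0) (by norm_num) ((fx_ev nets_ok.fx _).pow _) (Fx.one _)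
  · exact AgreeBits.eq (k := 17) (agree_of_eqB nets_ok (by norm_num) nets_r40_0) (by norm_num) ((fx_ev nets_ok.fx _).pow _) (Fx.one _)
  · exact AgreeBits.eq (k := 17) (agree_of_eqB nets_ok (by norm_num) nets_r41_0) (by norm_num) ((fx_ev nets_ok.fx _).pow _) (Fx.one _)
  · exact AgreeBits.eq (k := 17) (agree_of_eqB nets_ok (by norm_num) nets_r42_0) (by norm_num) ((fx_ev nets_ok.fx _).pow _) (Fx.one _)
  · exact AgreeBits.eq (k := 17) (agree_of_eqB nets_ok (by norm_num) nets_r43_0) (by norm_num) ((fx_ev nets_ok.fx _).pow _) (Fx.one _)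
  · exact AgreeBits.eq (k := 17) (agree_of_eqB nets_ok (by norm_num) nets_r44_0) (by norm_num) ((fx_ev nets_ok.fx _).pow _) (Fx.one _)
  · exact AgreeBits.eq (k := 17) (agree_of_eqB nets_ok (by norm_num) nets_r45_0) (by norm_num) ((fx_ev nets_ok.fx _).pow _) (Fx.one _)
  · exact AgreeBits.eq (k := 17) (agree_of_eqB nets_ok (by norm_num) nets_r46_0) (by norm_num) ((fx_ev nets_ok.fx _).pow _) (Fx.one _)
  · exact AgreeBits.eq (k := 17) (agree_of_eqB nets_ok (by norm_num) nets_r47_0) (by norm_num) ((fx_ev nets_ok.fx _).pow _) (Fx.one _)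
  · exact AgreeBits.eq (k := 17) (agree_of_eqB nets_ok (by norm_num) nets_r48_0) (by norm_num) ((fx_ev nets_ok.fx _).pow _) (Fx.one _)
  · exact AgreeBits.eq (k := 17) (agree_of_eqB nets_ok (by norm_num) nets_r49_0) (by norm_num) ((fx_ev nets_ok.fx _).pow _) (Fx.one _)
  · exact AgreeBits.eq (k := 17) (agree_of_eqB nets_ok (by norm_num) nets_r50_0) (by norm_num) ((fx_ev nets_ok.fx _).pow _) (Fx.one _)
  · exact AgreeBits.eq (k := 17) (agree_of_eqB nets_ok (by norm_num) nets_r51_0) (by norm_num) ((fx_ev nets_ok.fx _).pow _) (Fx.one _)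
  · exact AgreeBits.eq (k := 17) (agree_of_eqB nets_ok (by norm_num) nets_r52_0) (by norm_num) ((fx_ev nets_ok.fx _).pow _) (Fx.one _)
  · exact AgreeBits.eq (k := 17) (AgreeBits.trans (agree_of_eqB nets_ok (by norm_num) nets_r53_0) (agree_of_eqB nets_ok (by norm_num) nets_r53_9)) (by norm_num) ((fx_ev nets_ok.fx _).pow _) (Fx.one _)
  · exact AgreeBits.eq (k := 17) (agree_of_eqB nets_ok (by norm_num) nets_r54_0) (by norm_num) ((fx_ev nets_ok.fx _).pow _) (Fx.one _)
  · exact AgreeBits.eq (k := 17) (agree_of_eqB nets_ok (by norm_num) nets_r55_0) (by norm_num) ((fx_ev nets_ok.fx _).pow _) (Fx.one _)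
  · exact AgreeBits.eq (k := 17) (agree_of_eqB nets_ok (by norm_num) nets_r56_0) (by norm_num) ((fx_ev nets_ok.fx _).pow _) (Fx.one _)
  · exact AgreeBits.eq (k := 17) (agree_of_eqB nets_ok (by norm_num) nets_r57_0) (by norm_num) ((fx_ev nets_ok.fx _).pow _) (Fx.one _)
  · exact AgreeBits.eq (k := 17) (agree_of_eqB nets_ok (by norm_num) nets_r58_0) (by norm_num) ((fx_ev nets_ok.fx _).pow _) (Fx.one _)
  · exact AgreeBits.eq (k := 17) (agree_of_eqB nets_ok (by norm_num) nets_r59_0) (by norm_num) ((fx_ev nets_ok.fx _).pow _) (Fx.one _)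
  · exact AgreeBits.eq (k := 17) (agree_of_eqB nets_ok (by norm_num) nets_r60_0) (by norm_num) ((fx_ev nets_ok.fx _).pow _) (Fx.one _)
  · exact AgreeBits.eq (k := 17) (agree_of_eqB nets_ok (by norm_num) nets_r61_0) (by norm_num) ((fx_ev nets_ok.fx _).pow _) (Fx.one _)
  · exact AgreeBits.eq (k := 17) (agree_of_eqB nets_ok (by norm_num) nets_r62_0) (by norm_num) ((fx_ev nets_ok.fx _).pow _) (Fx.one _)
  · exact AgreeBits.eq (k := 17) (agree_of_eqB nets_ok (by norm_num) nets_r63_0) (by norm_num) ((fx_ev nets_ok.fx _).pow _) (Fx.one _)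
  · exact AgreeBits.eq (k := 17) (agree_of_eqB nets_ok (by norm_num) nets_r64_0) (by norm_num) ((fx_ev nets_ok.fx _).pow _) (Fx.one _)
  · exact AgreeBits.eq (k := 17) (agree_of_eqB nets_ok (by norm_num) nets_r65_0) (by norm_num) ((fx_ev nets_ok.fx _).pow _) (Fx.one _)
  · exact AgreeBits.eq (k := 17) (agree_of_eqB nets_ok (by norm_num) nets_r66_0) (by norm_num) ((fx_ev nets_ok.fx _).pow _) (Fx.one _)
  · exact AgreeBits.eq (k := 17) (agree_of_eqB nets_ok (by norm_num) nets_r67_0) (by norm_num) ((fx_ev nets_ok.fx _).pow _) (Fx.one _)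
  · exact AgreeBits.eq (k := 17) (agree_of_eqB nets_ok (by norm_num) nets_r68_0) (by norm_num) ((fx_ev nets_ok.fx _).pow _) (Fx.one _)
  · exact AgreeBits.eq (k := 17) (agree_of_eqB nets_ok (by norm_num) nets_r69_0) (by norm_num) ((fx_ev nets_ok.fx _).pow _) (Fx.one _)
  · exact AgreeBits.eq (k := 17) (agree_of_eqB nets_ok (by norm_num) nets_r70_0) (by norm_num) ((fx_ev nets_ok.fx _).pow _) (Fx.one _)
  · exact AgreeBits.eq (k := 17) (agree_of_eqB nets_ok (by norm_num) nets_r71_0) (by norm_num) ((fx_ev nets_ok.fx _).pow _) (Fx.one _)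
  · exact AgreeBits.eq (k := 17) (agree_of_eqB nets_ok (by norm_num) nets_r72_0) (by norm_num) ((fx_ev nets_ok.fx _).pow _) (Fx.one _)
  · exact AgreeBits.eq (k := 17) (agree_of_eqB nets_ok (by norm_num) nets_r73_0) (by norm_num) ((fx_ev nets_ok.fx _).pow _) (Fx.one _)
  · exact AgreeBits.eq (k := 17) (agree_of_eqB nets_ok (by norm_num) nets_r74_0) (by norm_num) ((fx_ev nets_ok.fx _).pow _) (Fx.one _)
  · exact AgreeBits.eq (k := 17) (agree_of_eqB nets_ok (by norm_num) nets_r75_0) (by norm_num) ((fx_ev nets_ok.fx _).pow _) (Fx.one _)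
  · exact AgreeBits.eq (k := 17) (agree_of_eqB nets_ok (by norm_num) nets_r76_0) (by norm_num) ((fx_ev nets_ok.fx _).pow _) (Fx.one _)
  · exact AgreeBits.eq (k := 17) (agree_of_eqB nets_ok (by norm_num) nets_r77_0) (by norm_num) ((fx_ev nets_ok.fx _).pow _) (Fx.one _)
  · exact AgreeBits.eq (k := 17) (agree_of_eqB nets_ok (by norm_num) nets_r78_0) (by norm_num) ((fx_ev nets_ok.fx _).pow _) (Fx.one _)
  · exact AgreeBits.eq (k := 17) (agree_of_eqB nets_ok (by norm_num) nets_r79_0) (by norm_num) ((fx_ev nets_ok.fx _).pow _) (Fx.one _)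
  · exact AgreeBits.eq (k := 17) (agree_of_eqB nets_ok (by norm_num) nets_r80_0) (by norm_num) ((fx_ev nets_ok.fx _).pow _) (Fx.one _)
  · exact AgreeBits.eq (k := 17) (agree_of_eqB nets_ok (by norm_num) nets_r81_0) (by norm_num) ((fx_ev nets_ok.fx _).pow _) (Fx.one _)
  · exact AgreeBits.eq (k := 17) (agree_of_eqB nets_ok (by norm_num) nets_r82_0) (by norm_num) ((fx_ev nets_ok.fx _).pow _) (Fx.one _)
  · exact AgreeBits.eq (k := 17) (agree_of_eqB nets_ok (by norm_num) nets_r83_0) (by norm_num) ((fx_ev nets_ok.fx _).pow _) (Fx.one _)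
  · exact AgreeBits.eq (k := 17) (agree_of_eqB nets_ok (by norm_num) nets_r84_0) (by norm_num) ((fx_ev nets_ok.fx _).pow _) (Fx.one _)
  · exact AgreeBits.eq (k := 17) (agree_of_eqB nets_ok (by norm_num) nets_r85_0) (by norm_num) ((fx_ev nets_ok.fx _).pow _) (Fx.one _)
  · exact AgreeBits.eq (k := 17) (agree_of_eqB nets_ok (by norm_num) nets_r86_0) (by norm_num) ((fx_ev nets_ok.fx _).pow _) (Fx.one _)
  · exact AgreeBits.eq (k := 17) (agree_of_eqB nets_ok (by norm_num) nets_r87_0) (by norm_num) ((fx_ev nets_ok.fx _).pow _) (Fx.one _)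
  · exact AgreeBits.eq (k := 17) (agree_of_eqB nets_ok (by norm_num) nets_r88_0) (by norm_num) ((fx_ev nets_ok.fx _).pow _) (Fx.one _)
  · exact AgreeBits.eq (k := 17) (agree_of_eqB nets_ok (by norm_num) nets_r89_0) (by norm_num) ((fx_ev nets_ok.fx _).pow _) (Fx.one _)
  · exact AgreeBits.eq (k := 17) (agree_of_eqB nets_ok (by norm_num) nets_r90_0) (by norm_num) ((fx_ev nets_ok.fx _).pow _) (Fx.one _)
  · exact AgreeBits.eq (k := 17) (agree_of_eqB nets_ok (by norm_num) nets_r91_0) (by norm_num) ((fx_ev nets_ok.fx _).pow _) (Fx.one _)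
  · exact AgreeBits.eq (k := 17) (agree_of_eqB nets_ok (by norm_num) nets_r92_0) (by norm_num) ((fx_ev nets_ok.fx _).pow _) (Fx.one _)
  · exact AgreeBits.eq (k := 17) (agree_of_eqB nets_ok (by norm_num) nets_r93_0) (by norm_num) ((fx_ev nets_ok.fx _).pow _) (Fx.one _)
  · exact AgreeBits.eq (k := 17) (agree_of_eqB nets_ok (by norm_num) nets_r94_0) (by norm_num) ((fx_ev nets_ok.fx _).pow _) (Fx.one _)
  · exact AgreeBits.eq (k := 17) (agree_of_eqB nets_ok (by norm_num) nets_r95_0) (by norm_num) ((fx_ev nets_ok.fx _).pow _) (Fx.one _)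
  · exact AgreeBits.eq (k := 17) (agree_of_eqB nets_ok (by norm_num) nets_r96_0) (by norm_num) ((fx_ev nets_ok.fx _).pow _) (Fx.one _)
  · exact AgreeBits.eq (k := 17) (agree_of_eqB nets_ok (by norm_num) nets_r97_0) (by norm_num) ((fx_ev nets_ok.fx _).pow _) (Fx.one _)
  · exact AgreeBits.eq (k := 17) (agree_of_eqB nets_ok (by norm_num) nets_r98_0) (by norm_num) ((fx_ev nets_ok.fx _).pow _) (Fx.one _)
  · exact AgreeBits.eq (k := 17) (agree_of_eqB nets_ok (by norm_num) nets_r99_0) (by norm_num) ((fx_ev nets_ok.fx _).pow _) (Fx.one _)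
  · exact AgreeBits.eq (k := 17) (agree_of_eqB nets_ok (by norm_num) nets_r100_0) (by norm_num) ((fx_ev nets_ok.fx _).pow _) (Fx.one _)
  · exact AgreeBits.eq (k := 17) (agree_of_eqB nets_ok (by norm_num) nets_r101_0) (by norm_num) ((fx_ev nets_ok.fx _).pow _) (Fx.one _)
  · exact AgreeBits.eq (k := 17) (agree_of_eqB nets_ok (by norm_num) nets_r102_0) (by norm_num) ((fx_ev nets_ok.fx _).pow _) (Fx.one _)
  · exact AgreeBits.eq (k := 17) (agree_of_eqB nets_ok (by norm_num) nets_r103_0) (by norm_num) ((fx_ev nets_ok.fx _).pow _) (Fx.one _)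
  · exact AgreeBits.eq (k := 17) (agree_of_eqB nets_ok (by norm_num) nets_r104_0) (by norm_num) ((fx_ev nets_ok.fx _).pow _) (Fx.one _)
  · exact AgreeBits.eq (k := 17) (agree_of_eqB nets_ok (by norm_num) nets_r105_0) (by norm_num) ((fx_ev nets_ok.fx _).pow _) (Fx.one _)
  · exact AgreeBits.eq (k := 17) (agree_of_eqB nets_ok (by norm_num) nets_r106_0) (by norm_num) ((fx_ev nets_ok.fx _).pow _) (Fx.one _)
  · exact AgreeBits.eq (k := 17) (agree_of_eqB nets_ok (by norm_num) nets_r107_0) (by norm_num) ((fx_ev nets_ok.fx _).pow _) (Fx.one _)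
  · exact AgreeBits.eq (k := 17) (agree_of_eqB nets_ok (by norm_num) nets_r108_0) (by norm_num) ((fx_ev nets_ok.fx _).pow _) (Fx.one _)
  · exact AgreeBits.eq (k := 17) (agree_of_eqB nets_ok (by norm_num) nets_r109_0) (by norm_num) ((fx_ev nets_ok.fx _).pow _) (Fx.one _)
  · exact AgreeBits.eq (k := 17) (agree_of_eqB nets_ok (by norm_num) nets_r110_0) (by norm_num) ((fx_ev nets_ok.fx _).pow _) (Fx.one _)
  · exact AgreeBits.eq (k := 17) (agree_of_eqB nets_ok (by norm_num) nets_r111_0) (by norm_num) ((fx_ev nets_ok.fx _).pow _) (Fx.one _)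
  · exact AgreeBits.eq (k := 17) (agree_of_eqB nets_ok (by norm_num) nets_r112_0) (by norm_num) ((fx_ev nets_ok.fx _).pow _) (Fx.one _)
  · exact AgreeBits.eq (k := 17) (agree_of_eqB nets_ok (by norm_num) nets_r113_0) (by norm_num) ((fx_ev nets_ok.fx _).pow _) (Fx.one _)
  · exact AgreeBits.eq (k := 17) (agree_of_eqB nets_ok (by norm_num) nets_r114_0) (by norm_num) ((fx_ev nets_ok.fx _).pow _) (Fx.one _)
  · exact AgreeBits.eq (k := 17) (agree_of_eqB nets_ok (by norm_num) nets_r115_0) (by norm_num) ((fx_ev nets_ok.fx _).pow _) (Fx.one _)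
  · exact AgreeBits.eq (k := 17) (agree_of_eqB nets_ok (by norm_num) nets_r116_0) (by norm_num) ((fx_ev nets_ok.fx _).pow _) (Fx.one _)
  · exact AgreeBits.eq (k := 17) (agree_of_eqB nets_ok (by norm_num) nets_r117_0) (by norm_num) ((fx_ev nets_ok.fx _).pow _) (Fx.one _)
  · exact AgreeBits.eq (k := 17) (agree_of_eqB nets_ok (by norm_num) nets_r118_0) (by norm_num) ((fx_ev nets_ok.fx _).pow _) (Fx.one _)
  · exact AgreeBits.eq (k := 17) (agree_of_eqB nets_ok (by norm_num) nets_r119_0) (by norm_num) ((fx_ev nets_ok.fx _).pow _) (Fx.one _)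
  · exact AgreeBits.eq (k := 17) (agree_of_eqB nets_ok (by norm_num) nets_r120_0) (by norm_num) ((fx_ev nets_ok.fx _).pow _) (Fx.one _)
  · exact AgreeBits.eq (k := 17) (agree_of_eqB nets_ok (by norm_num) nets_r121_0) (by norm_num) ((fx_ev nets_ok.fx _).pow _) (Fx.one _)
  · exact AgreeBits.eq (k := 17) (agree_of_eqB nets_ok (by norm_num) nets_r122_0) (by norm_num) ((fx_ev nets_ok.fx _).pow _) (Fx.one _)
  · exact AgreeBits.eq (k := 17) (agree_of_eqB nets_ok (by norm_num) nets_r123_0) (by norm_num) ((fx_ev nets_ok.fx _).pow _) (Fx.one _)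
  · exact AgreeBits.eq (k := 17) (agree_of_eqB nets_ok (by norm_num) nets_r124_0) (by norm_num) ((fx_ev nets_ok.fx _).pow _) (Fx.one _)
  · exact AgreeBits.eq (k := 17) (agree_of_eqB nets_ok (by norm_num) nets_r125_0) (by norm_num) ((fx_ev nets_ok.fx _).pow _) (Fx.one _)
  · exact AgreeBits.eq (k := 17) (agree_of_eqB nets_ok (by norm_num) nets_r126_0) (by norm_num) ((fx_ev nets_ok.fx _).pow _) (Fx.one _)

end Cfsg.Lib.Comp.Co1y
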