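import Cfsg.Agent.Lib.Comp.Co1y.Perm1

set_option maxRecDepth 100000
set_option Elab.async false

namespace Cfsg.Lib.Comp.Co1y

universe u

theorem nets_iv : IvOK (gp nets) iv := ivOK_of_ivB (k := 17) nets_ok (by norm_num) (by decide +kernel)

noncomputable def slp : List (ℕ × List ℕ) := []

theorem slp_ok : slpB 98304 17 nets slp L = true := by decide +kernel

theorem mem_all {x : ℕ} (h : x ∈ L ++ slp.map (·.1)) : gp nets x ∈ cl (gp nets) L :=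
  cl_eq_of_slpB nets_ok (by norm_num) slp_ok ▸ mem_cl h

theorem lb : 4157776806543360000 ≤ Nat.card (cl (gp nets) L) := by
  rw [← cl_eq_of_slpB nets_ok (by norm_num) slp_ok]
  exact lb_of_chainB nets_ok (C := [([1,2,3,4,5,6,7,8,9],[10,9,1,3,4,6,1,5,8,9,10,3,1,7,5,4,9,8,1,5,4,6,9,10,7,5,8,3,9,1,4,5,8,6,1,7,5,4,1],0,0,98280),
 ([1,2,3,4,5,6,7,8],[9,1,3,4,6,1,5,8,9,1,7,5,4,8,1,6,9,1,5,8,7,5,3,9,4,1,6,8,4,5,7,9],1,1,4600),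
 ([1,2,3,4,5,6,7],[8,1,5,6,7,3,4,1,5,8,4,1,5,6,7,4,5,8,1,6,5,4,1,8],51176,51176,2816),
 ([1,2,3,4,5,6],[7,5,3,4,6,1,5,3,4,6,7,5,3,4,1],3,3,162),
 ([1,2,3,4,5],[6,1,5,1,3,4,6,5],26228,26228,21),
 ([1,2,3,4],[5,3,4,1,1,3,5,1],26249,26249,20),
 ([],[1,3,4,1,3,4,1],16196,16196,48)]) (by decide +kernel)

end Cfsg.Lib.Comp.Co1y
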