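import Cfsg.Agent.Lib.Comp.Co1y.Base

set_option maxRecDepth 100000
set_option Elab.async false

namespace Cfsg.Lib.Comp.Co1y

universe u

noncomputable def T6_R : List (List ℕ × ℕ) := [([3],1),
 ([4],1),
 ([1],2),
 ([3,4],1),
 ([1,3],2),
 ([1,4],2),
 ([1,4,2,3],1),
 ([1,3,2,4],1),
 ([1,1,1,4],1),
 ([1,3,2,3],1),
 ([1,4,2,4],1),
 ([1,2],0)]

noncomputable def T6_n_1 : Net :=
 (Net.cons 24 (nat_lit 0x71afcc)
 (Net.cons 12 (nat_lit 0xe14000e20)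
 (Net.cons 6 (nat_lit 0x403803a022)
 (Net.cons 3 (nat_lit 0x4106000006)
 (Net.cons 1 (nat_lit 0x249048000009)
 (Net.cons 1 (nat_lit 0x92492012490)
 (Net.cons 1 (nat_lit 0x41048009248)
 (Net.cons 3 (nat_lit 0x1021041810c0)
 (Net.cons 6 (nat_lit 0xf021024024)
 (Net.cons 12 (nat_lit 0xcff000461)
 (Net.cons 24 (nat_lit 0xca06b9)
 Net.nil)))))))))))

noncomputable def T6_n_3 : Net :=
 (Net.cons 24 (nat_lit 0x737c)
 (Net.cons 12 (nat_lit 0x9b0000d3a)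
 (Net.cons 6 (nat_lit 0x34006034030)
 (Net.cons 3 (nat_lit 0x180000002)
 (Net.cons 1 (nat_lit 0x40201240208)
 (Net.cons 1 (nat_lit 0x492480492480)
 (Net.cons 1 (nat_lit 0x9040001040)
 (Net.cons 3 (nat_lit 0x871c11c4043)
 (Net.cons 6 (nat_lit 0xb03000b006)
 (Net.cons 12 (nat_lit 0xd3a0009b0)
 (Net.cons 24 (nat_lit 0xf70c83)
 Net.nil)))))))))))

noncomputable def T6_n_4 : Net :=
 (Net.cons 24 (nat_lit 0xd5de28)
 (Net.cons 12 (nat_lit 0xf00000b0c)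
 (Net.cons 6 (nat_lit 0x1c02803003c)
 (Net.cons 3 (nat_lit 0x2002182004)
 (Net.cons 1 (nat_lit 0x1248201241)
 (Net.cons 1 (nat_lit 0x492492090410)
 (Net.cons 1 (nat_lit 0x241008000008)
 (Net.cons 3 (nat_lit 0x85045141142)
 (Net.cons 6 (nat_lit 0x2c01e00f003)
 (Net.cons 12 (nat_lit 0xff000b0c)
 (Net.cons 24 (nat_lit 0xd5de28)
 Net.nil)))))))))))

noncomputable def T6_n : List Net := [Net.nil,
 T6_n_1,
 Net.rev T6_n_1,
 T6_n_3,
 T6_n_4]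

theorem T6_n_ok : NetsOK 48 T6_n := netsOK_of (by decide +kernel)

theorem T6_n_rel : Rels (gp T6_n) T6_R := rels_of_relsB (k := 6) T6_n_ok (by norm_num) (by decide +kernel)

theorem T6_fin : finB 48 T6_n [1,2,3,4] 48 (runH 48 T6_n (fun x p => ptInv (nth Net.nil T6_n x) p) iv T6_R [] ([].map fun x => [x]) 0 []
  [0,4,12,44,8,16,20,24,28,32,36,40,44,0,12,20,24]
  (defsH 48 T6_n (ones 528) [1,2,3,4,1,2,3,4] (Nat.shiftLeft 1 0) 0)) = true := by decide +kernel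

theorem T6_idx : Idx.{u} iv (T6_R ++ []) ([].map fun x => [x]) [1,2,3,4] 48 :=
  Reach.idx T6_n_ok (reach_runH T6_n_ok (fun x p _ => ptInv_gp T6_n_ok x p) T6_n_rel (reach_defsH T6_n_ok _ _ _ _ _ _) _ _) T6_fin (by norm_num)

end Cfsg.Lib.Comp.Co1y
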